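import Cfsg.Agent.H89.Lift.Good
import Cfsg.Agent.Fusion.Alperin
import Cfsg.Agent.FusionSys.SaturationCriterion

/-!
Saturation and weak normality of the lifted subsystem.
-/

set_option autoImplicit false
set_option linter.style.haveILetI false
set_option linter.unusedSectionVars false

namespace Cfsg.Agent.H89.Lift

open Cfsg Cfsg.FusionSystem Cfsg.Agent.FusionSys Cfsg.Agent.H91.CentFocal
open Cfsg.Agent.H89 (mem_preimageAlong preimageAlong_le ker_le_preimageAlong mem_imageAlong KerEq)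
open Cfsg.Agent.H48 (IsSylowIn)
open Cfsg.FusionSystem (centralizerIn normalizerIn)

universe u u'

variable {Ω : Type u} [Group Ω] {S : Subgroup Ω} {Ω' : Type u'} [Group Ω'] {S' T : Subgroup Ω'}
variable {p : ℕ} {F : FusionSystem S} {θ : S →* Ω'} {Z : Subgroup Ω} {E : FusionSystem S'}
  {D : FusionSystem T}

/-- The elements of `N_{T₀}(Q)` inducing automorphisms in `Y`. -/
def nSub (T₀ Q : Subgroup Ω) (Y : Subgroup (MulAut Q)) : Subgroup Ω :=
  (Y.comap (conjAutIn T₀ Q)).map (normalizerIn T₀ Q).subtype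

theorem mem_nSub {T₀ Q : Subgroup Ω} {Y : Subgroup (MulAut Q)} {x : Ω} :
    x ∈ nSub T₀ Q Y ↔ ∃ hx : x ∈ normalizerIn T₀ Q, conjAut hx.2 ∈ Y := by
  constructor
  · rintro ⟨y, hy, rfl⟩
    exact ⟨y.2, hy⟩
  · rintro ⟨hx, h⟩
    exact ⟨⟨x, hx⟩, h, rfl⟩

theorem nSub_le {T₀ Q : Subgroup Ω} {Y : Subgroup (MulAut Q)} : nSub T₀ Q Y ≤ T₀ :=
  fun _ hx => (mem_nSub.1 hx).1.1

theorem le_nSub {T₀ Q : Subgroup Ω} {Y : Subgroup (MulAut Q)} (hQ : Q ≤ T₀) (hY : Inn Q ≤ Y) :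
    Q ≤ nSub T₀ Q Y := fun x hx => mem_nSub.2 ⟨le_normalizerIn_self hQ hx, hY (by
  rw [inn_eq_autInducedBy_self]
  exact mem_autInducedBy.2 ⟨x, hx, _, rfl⟩)⟩

theorem inn_conj {Q : Subgroup Ω} {Y : Subgroup (MulAut Q)} (hY : Inn Q ≤ Y) (α : MulAut Q) :
    Inn Q ≤ Y.comap (MulAut.conj α).toMonoidHom := by
  rw [inn_eq_autInducedBy_self]
  intro u hu
  obtain ⟨q, hq, hqn, rfl⟩ := mem_autInducedBy.1 hu
  refine hY ?_
  rw [inn_eq_autInducedBy_self]
  refine mem_autInducedBy.2 ⟨autMap α q, autMap_mem α hq, Subgroup.le_normalizer (autMap_mem α hq),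
    aut_ext fun z hz => ?_⟩
  show autMap (α * conjAut hqn * α⁻¹) z = _
  have h : z = autMap α (autMap α⁻¹ z) := (autMap_inv_apply α hz).symm
  have hw := autMap_mem α⁻¹ hz
  rw [autMap_mul _ _ hz, autMap_mul _ _ hw, autMap_conjAut hqn hw, conjMap_apply,
    autMap_conjAut _ hz, conjMap_apply]
  conv_rhs => rw [h]
  simp only [autMap_apply _ hq, autMap_apply _ hw, autMap_apply _ ((mul_mem (mul_mem hq hw) (inv_mem hq)))]
  exact congrArg Subtype.val (show α (⟨q, hq⟩ * ⟨_, hw⟩ * ⟨q, hq⟩⁻¹) = _ by rw [map_mul, map_mul, map_inv])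

namespace Setup

variable (hs : Setup p F θ Z E D)
include hs

variable [Finite S] [Fact p.Prime]

/-- Extensions normalize as prescribed. -/
theorem mapsTo_nSub {Q : Subgroup Ω} (hQ : Q ≤ preimageAlong θ T) {Y Y' : Subgroup (MulAut Q)}
    (hYI : Inn Q ≤ Y) {x : MulAut Q} {g : Ω → Ω} (hg : IsMap F (nSub (preimageAlong θ T) Q Y) g)
    (hge : ∀ q ∈ Q, g q = autMap x q) (hx : ∀ y ∈ Y, x * y * x⁻¹ ∈ Y') {n : Ω}
    (hn : n ∈ nSub (preimageAlong θ T) Q Y) : g n ∈ nSub (preimageAlong θ T) Q Y' := by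
  obtain ⟨hnN, hnY⟩ := mem_nSub.1 hn
  haveI := finite_of_le (hQ.trans hs.T0_le)
  have hQN := le_nSub hQ hYI
  have hgn : g n ∈ preimageAlong θ T :=
    (stronglyClosed_iff.1 hs.T0_closed).2 _ g nSub_le hg n hn
  have hgc : ∀ q ∈ Q, g n * autMap x q * (g n)⁻¹ = autMap x (n * q * n⁻¹) := fun q hq => by
    rw [← hge q hq, ← hge _ ((Subgroup.mem_normalizer_iff.1 hnN.2 q).1 hq), hg.map_conj hn (hQN hq)]
  have hgnn : g n ∈ Subgroup.normalizer (Q : Set Ω) := mem_normalizer_of_maps fun w hw => by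
    rw [← autMap_inv_apply x hw, hgc _ (autMap_mem _ hw)]
    exact autMap_mem _ ((Subgroup.mem_normalizer_iff.1 hnN.2 _).1 (autMap_mem _ hw))
  refine mem_nSub.2 ⟨⟨hgn, hgnn⟩, ?_⟩
  convert hx _ hnY using 1
  refine aut_ext fun w hw => ?_
  rw [autMap_conjAut hgnn hw, conjMap_apply, autMap_mul _ _ hw, autMap_mul _ _ (autMap_mem _ hw),
    autMap_conjAut hnN.2 (autMap_mem _ hw), conjMap_apply, ← hgc _ (autMap_mem _ hw),
    autMap_inv_apply x hw]

/-- Automorphisms of order prime to `p` normalizing `Y` extend inside the lifted system. -/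
theorem exists_ext_coprime {Q : Subgroup Ω} (hQ : InH θ Z D Q) (hQn : F.IsFullyNormalized Q)
    {Y : Subgroup (MulAut Q)} (hYI : Inn Q ≤ Y) (hYU : Y ≤ hs.uAut Q) {x : MulAut Q}
    (hx : x ∈ hs.bAut Q) (hxY : ∀ y ∈ Y, x * y * x⁻¹ ∈ Y) (hco : (orderOf x).Coprime p) :
    ∃ g, IsMap hs.D0 (nSub (preimageAlong θ T) Q Y) g ∧ ∀ q ∈ Q, g q = autMap x q := by
  obtain ⟨hZQ, hQT, hQc⟩ := hQ
  have hQS := hQn.1
  set N := nSub (preimageAlong θ T) Q Y with hN
  have hNT : N ≤ preimageAlong θ T := nSub_le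
  have hQN : Q ≤ N := le_nSub hQT hYI
  haveI := finite_of_le hQS
  haveI := hs.finite_S'
  haveI := hs.finite_T
  obtain ⟨hxF, -, f', hf', hfe⟩ := (hs.mem_indAut hQT).1 (hs.bAut_le_indAut hQT hx)
  obtain ⟨g, hg, hge⟩ := receptive_extend (receptive_of_isFullyNormalized hs.hS hs.hF hQn)
    (isIso_autMap hQS ((mem_autGroup_iff hQS).2 hxF)) (N := N) fun n hn => by
      obtain ⟨hnN, hnY⟩ := mem_nSub.1 hn
      obtain ⟨t, htT, htn, hte⟩ := mem_autInducedBy.1 (hYU (hxY _ hnY))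
      refine ⟨hs.T0_le hnN.1, hnN.2, t, hs.T0_le htT, fun z hz => ?_⟩
      have h := congrArg (fun a => autMap a (autMap x z)) hte
      rw [autMap_conjAut htn (autMap_mem _ hz), autMap_mul _ _ (autMap_mem _ hz),
        ← autMap_mul x⁻¹ x hz, inv_mul_cancel, FusionSys.autMap_one hz, autMap_mul _ _ hz,
        autMap_conjAut hnN.2 hz] at h
      exact h
  replace hg : IsMap F N g := hg.mono le_sup_left
  have hm : ∀ n ∈ N, g n ∈ N := fun n hn => hs.mapsTo_nSub hQT hYI hg hge hxY hn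
  obtain ⟨k, b, hb, hgk, hgkb, hgke⟩ := exists_pPrime_power (p := p) hg hm
  haveI := finite_of_le (hNT.trans hs.T0_le)
  haveI := finite_mulAut_of_le (hNT.trans hs.T0_le)
  obtain ⟨α, hα, hαe⟩ :=
    (isIso_of_mapsTo hgk fun n hn => iterate_mem hm k hn).exists_aut
  have hgx : ∀ q ∈ Q, g q = autMap x q := hge
  have hαQ : ∀ q ∈ Q, autMap α q = autMap x q := fun q hq => by
    rw [hαe q (hQN hq), hgke q (hQN hq) (orderOf x) hco, hge q hq]
    rw [autMap_pow x hgx _ hq, pow_orderOf_eq_one, FusionSys.autMap_one hq]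
  have hαb : α ^ b = 1 := aut_ext fun n hn => by
    rw [← autMap_pow α (fun y hy => (hαe y hy).symm) b hn, hgkb n hn, FusionSys.autMap_one hn]
  have hαco : (orderOf α).Coprime p := hb.coprime_dvd_left (orderOf_dvd_of_pow_eq_one hαb)
  have hNH : InH θ Z D N := hs.inH_up ⟨hZQ, hQT, hQc⟩ hQN hNT
  set N' := imageAlong θ N with hN'
  set Q' := imageAlong θ Q with hQ'
  have hN'T : N' ≤ T := hs.img_le_T hNT
  have hQN' : Q' ≤ N' := img_mono hQN
  have hQ'T : Q' ≤ T := hQN'.trans hN'T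
  haveI := finite_of_le (S := T) hN'T
  haveI := finite_of_le (S := T) hQ'T
  haveI := finite_mulAut_of_le (S := T) hN'T
  obtain ⟨β, hβ, hβe⟩ := hs.exists_induced_aut (hNT.trans hs.T0_le) hα
  have hTp : IsPGroup p T := hs.isPGroup_S'.to_le hs.T_le
  have hfn : D.IsFullyNormalized Q' := isFullyNormalized_sub hs.isPGroup_S' hs.E_saturated
    hs.hD.1.2.2.1 hs.hD.1.2.2.2.1 hQ'T (hs.img_isFullyNormalized hQn hZQ)
  have hnS : ∀ {n : Ω}, n ∈ N → n ∈ S := fun hn => hs.T0_le (hNT hn)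
  have hf'Q : ∀ q ∈ Q, f' (th θ q) = th θ (autMap α q) := fun q hq => by
    rw [← hfe q hq, hαQ q hq]
  have hf'i : IsIso D Q' Q' f' := isIso_of_mapsTo hf' fun r hr => by
    obtain ⟨q, -, hq, rfl⟩ := mem_img.1 hr
    rw [← hfe q hq]
    exact th_mem_img hQS (autMap_mem x hq)
  have hconj : ∀ n ∈ N, ∀ q ∈ Q, f' (th θ n * th θ q * (th θ n)⁻¹) =
      th θ (autMap α n) * f' (th θ q) * (th θ (autMap α n))⁻¹ := fun n hn q hq => by
    have hnq : n * q * n⁻¹ ∈ Q := (Subgroup.mem_normalizer_iff.1 (mem_nSub.1 hn).1.2 q).1 hq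
    rw [← th_conj (hnS hn) (hQS hq), hf'Q _ hnq, hf'Q q hq,
      ← th_conj (hnS (autMap_mem α hn)) (hnS (autMap_mem α (hQN hq))),
      (isIso_autMap (hNT.trans hs.T0_le) hα).isMap.map_conj hn (hQN hq)]
  have hnorm : ∀ r ∈ N', r ∈ Subgroup.normalizer (Q' : Set Ω') := fun r hr => by
    obtain ⟨n, -, hn, rfl⟩ := mem_img.1 hr
    refine mem_normalizer_of_maps fun w hw => ?_
    obtain ⟨q, -, hq, rfl⟩ := mem_img.1 hw
    rw [← th_conj (hnS hn) (hQS hq)]
    exact th_mem_img hQS ((Subgroup.mem_normalizer_iff.1 (mem_nSub.1 hn).1.2 q).1 hq)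
  obtain ⟨d, hd, hde⟩ := receptive_extend (receptive_of_isFullyNormalized hTp hs.hD.1.1 hfn) hf'i
    (N := N') fun r hr => by
      obtain ⟨n, -, hn, rfl⟩ := mem_img.1 hr
      refine ⟨hN'T hr, hnorm _ hr, th θ (autMap α n),
        hN'T (th_mem_img (hNT.trans hs.T0_le) (autMap_mem α hn)), fun w hw => ?_⟩
      obtain ⟨q, -, hq, rfl⟩ := mem_img.1 hw
      exact hconj n hn q hq
  replace hd : IsMap D N' d := hd.mono le_sup_left
  have hdiff : ∀ n ∈ N, (d (th θ n))⁻¹ * th θ (autMap α n) ∈ Q' := fun n hn => by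
    have hn' : th θ n ∈ N' := th_mem_img (hNT.trans hs.T0_le) hn
    refine hQc.2 Q' (isConj_refl D hQ'T) (FusionSys.mem_centralizerIn.2
      ⟨mul_mem (inv_mem (hd.mem_S hn')) (hN'T (th_mem_img (hNT.trans hs.T0_le) (autMap_mem α hn))),
        fun w hw => ?_⟩)
    obtain ⟨r, hr, rfl⟩ := hf'i.exists_preimage hw
    obtain ⟨q, -, hq, rfl⟩ := mem_img.1 hr
    have h1 := hconj n hn q hq
    rw [← hde _ ((Subgroup.mem_normalizer_iff.1 (hnorm _ hn') _).1 hr), hd.map_conj hn' (hQN' hr),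
      hde _ hr] at h1
    calc f' (th θ q) * ((d (th θ n))⁻¹ * th θ (autMap α n))
        = (d (th θ n))⁻¹ * (d (th θ n) * f' (th θ q) * (d (th θ n))⁻¹) * th θ (autMap α n) := by group
      _ = _ := by rw [h1]; group
  obtain ⟨δ, hδ, hδe⟩ := (isIso_of_mapsTo hd fun r hr => by
    obtain ⟨n, -, hn, rfl⟩ := mem_img.1 hr
    have h := mul_mem (th_mem_img (hNT.trans hs.T0_le) (autMap_mem α hn))
      (inv_mem (hQN' (hdiff n hn)))
    rwa [_root_.mul_inv_rev, inv_inv, mul_inv_cancel_left] at h).exists_aut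
  set ε : MulAut N' := δ⁻¹ * β with hε
  have hεQ : ∀ r ∈ Q', autMap ε r = r := fun r hr => by
    obtain ⟨q, -, hq, rfl⟩ := mem_img.1 hr
    rw [hε, autMap_mul _ _ (hQN' hr), hβe q (hQN hq), ← hf'Q q hq, ← hde _ hr,
      ← hδe _ (hQN' hr), S5114.inv_autMap_apply δ (hQN' hr)]
  have hεm : ∀ r ∈ N', r⁻¹ * autMap ε r ∈ Q' := fun r hr => by
    obtain ⟨n, -, hn, rfl⟩ := mem_img.1 hr
    obtain ⟨w, hw, hwe⟩ := hf'i.exists_preimage (hdiff n hn)
    rw [← hde w hw] at hwe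
    have hnN := th_mem_img (θ := θ) (hNT.trans hs.T0_le) hn
    have h1 : autMap β (th θ n) = autMap δ (th θ n * w) := by
      rw [hδe _ (mul_mem hnN (hQN' hw)), hd.map_mul hnN (hQN' hw), hwe, mul_inv_cancel_left, hβe n hn]
    rw [hε, autMap_mul _ _ hnN, h1, S5114.inv_autMap_apply δ (mul_mem hnN (hQN' hw)),
      inv_mul_cancel_left]
    exact hw
  obtain ⟨a, ha⟩ := IsPGroup.iff_card.1 (hTp.to_le hQ'T)
  have hεpow : ∀ (j : ℕ), ∀ r ∈ N', autMap (ε ^ j) r = r * (r⁻¹ * autMap ε r) ^ j := by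
    intro j r hr
    induction j with
    | zero => rw [pow_zero, pow_zero, FusionSys.autMap_one hr, mul_one]
    | succ j ih =>
      have hj := Q'.pow_mem (hεm r hr) j
      rw [pow_succ', autMap_mul _ _ hr, ih,
        (isIso_autMap (hN'T.trans hs.T_le) (show ε ∈ E.autGroup N' from mul_mem (inv_mem
          (mem_autGroup_of_isMap (isMap_of_sub hs.hD.1.2.2.1 ((mem_autGroup_iff hN'T).1 hδ)))) hβ)).isMap.map_mul
          hr (hQN' hj), hεQ _ hj, pow_succ', ← mul_assoc r, mul_inv_cancel_left]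
  have hεa : ε ^ p ^ a = 1 := aut_ext fun r hr => by
    rw [hεpow _ r hr, ← ha, show (r⁻¹ * autMap ε r) ^ Nat.card Q' = 1 from
      congrArg Subtype.val (pow_card_eq_one' (x := (⟨_, hεm r hr⟩ : Q'))), mul_one,
      FusionSys.autMap_one hr]
  have hεE : ε ∈ E.autGroup N' := mul_mem (inv_mem
    (mem_autGroup_of_isMap (isMap_of_sub hs.hD.1.2.2.1 ((mem_autGroup_iff hN'T).1 hδ)))) hβ
  have hβpow : ∀ j : ℕ, ∃ h ∈ D.autGroup N', β ^ j = h * ε ^ j := by
    intro j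
    induction j with
    | zero => exact ⟨1, one_mem _, by rw [pow_zero, pow_zero, one_mul]⟩
    | succ j ih =>
      obtain ⟨h, hh, he⟩ := ih
      refine ⟨h * (ε ^ j * δ * (ε ^ j)⁻¹), mul_mem hh
        (WeakResidual.conj_mem_autGroup hs.hD.1.2.2 hN'T (pow_mem hεE j) hδ), ?_⟩
      rw [pow_succ, he, pow_succ, show β = δ * ε by rw [hε, mul_inv_cancel_left]]
      group
  have hβa : β ^ p ^ a ∈ D.autGroup N' := by
    obtain ⟨h, hh, he⟩ := hβpow (p ^ a)
    rw [he, hεa, mul_one]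
    exact hh
  have hβo : β ^ orderOf α = 1 := by
    have key : ∀ j : ℕ, ∀ n ∈ N, autMap (β ^ j) (th θ n) = th θ (autMap (α ^ j) n) := by
      intro j
      induction j with
      | zero =>
        intro n hn
        rw [pow_zero, pow_zero, FusionSys.autMap_one (th_mem_img (hNT.trans hs.T0_le) hn),
          FusionSys.autMap_one hn]
      | succ j ih =>
        intro n hn
        rw [pow_succ', autMap_mul _ _ (th_mem_img (hNT.trans hs.T0_le) hn), ih n hn,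
          hβe _ (autMap_mem _ hn), pow_succ', autMap_mul _ _ hn]
    refine aut_ext fun r hr => ?_
    obtain ⟨n, -, hn, rfl⟩ := mem_img.1 hr
    rw [key _ n hn, pow_orderOf_eq_one, FusionSys.autMap_one hn, FusionSys.autMap_one hr]
  have hβD : β ∈ D.autGroup N' := by
    have hcop : (orderOf β).Coprime (p ^ a) :=
      Nat.Coprime.pow_right a (hαco.coprime_dvd_left (orderOf_dvd_of_pow_eq_one hβo))
    obtain ⟨c, hc⟩ := exists_pow_eq_self_of_coprime hcop.symm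
    rw [← hc]
    exact pow_mem hβa c
  refine ⟨autMap α, hs.isMap_D0.2 (InD.gen hNH hαco
    ⟨(mem_autGroup_iff (hNT.trans hs.T0_le)).1 hα, hNT, autMap β,
      (mem_autGroup_iff hN'T).1 hβD, fun n hn => (hβe n hn).symm⟩), hαQ⟩

/-- Elements normalizing a tame intersection extend. -/
theorem exists_ext_tame {Q : Subgroup Ω} (hQ : InH θ Z D Q) (hQn : F.IsFullyNormalized Q)
    [Finite (hs.bAut Q)] (P P' : Sylow p (hs.bAut Q))
    (hP : (P : Subgroup (hs.bAut Q)) = (hs.uAut Q).subgroupOf (hs.bAut Q))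
    (htame : Fusion.IsTame P P')
    (hI : Inn Q ≤ ((P : Subgroup (hs.bAut Q)) ⊓ (P' : Subgroup (hs.bAut Q))).map (hs.bAut Q).subtype)
    {x : hs.bAut Q}
    (hx : x ∈ Subgroup.normalizer (((P : Subgroup (hs.bAut Q)) ⊓ (P' : Subgroup (hs.bAut Q)) :
      Subgroup (hs.bAut Q)) : Set (hs.bAut Q))) :
    ∃ g, IsMap hs.D0 (nSub (preimageAlong θ T) Q
      (((P : Subgroup (hs.bAut Q)) ⊓ (P' : Subgroup (hs.bAut Q))).map (hs.bAut Q).subtype)) g ∧
      ∀ q ∈ Q, g q = autMap (x : MulAut Q) q := by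
  set Y0 : Subgroup (hs.bAut Q) := (P : Subgroup (hs.bAut Q)) ⊓ (P' : Subgroup (hs.bAut Q)) with hY0
  set Y := Y0.map (hs.bAut Q).subtype with hY
  set N := Subgroup.normalizer (Y0 : Set (hs.bAut Q)) with hN
  have hYU : Y ≤ hs.uAut Q := by
    rintro _ ⟨y, hy, rfl⟩
    exact (hP ▸ hy.1 : y ∈ (hs.uAut Q).subgroupOf (hs.bAut Q))
  have hnorm : ∀ x ∈ N, ∀ y ∈ Y, ((x : hs.bAut Q) : MulAut Q) * y * (x : MulAut Q)⁻¹ ∈ Y := by
    rintro x hx _ ⟨y, hy, rfl⟩
    exact ⟨x * y * x⁻¹, (Subgroup.mem_normalizer_iff.1 hx y).1 hy, rfl⟩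
  have hQT := hQ.2.1
  have hQN := le_nSub hQT hI
  let M : Submonoid N :=
    { carrier := {x | ∃ g, IsMap hs.D0 (nSub (preimageAlong θ T) Q Y) g ∧
        ∀ q ∈ Q, g q = autMap ((x : hs.bAut Q) : MulAut Q) q}
      one_mem' := ⟨id, isMap_id _ nSub_le, fun q hq => (FusionSys.autMap_one hq).symm⟩
      mul_mem' := by
        rintro x y ⟨g, hg, hge⟩ ⟨h, hh, hhe⟩
        refine ⟨g ∘ h, hh.comp hg fun n hn =>
          hs.mapsTo_nSub hQT hI (isMap_of_sub hs.D0_sub hh) hhe (hnorm _ y.2) hn, fun q hq => ?_⟩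
        rw [Function.comp_apply, hhe q hq, hge _ (autMap_mem _ hq)]
        exact (autMap_mul _ _ hq).symm }
  let K : Subgroup N :=
    { M with
      inv_mem' := fun {x} hx => by
        show x⁻¹ ∈ M
        rw [← mul_one x⁻¹, ← pow_orderOf_eq_one x, ← Nat.sub_add_cancel (orderOf_pos x), pow_succ',
          inv_mul_cancel_left]
        exact M.pow_mem hx _ }
  have hsy : IsSylowIn p ((P : Subgroup (hs.bAut Q)) ⊓ N) N :=
    ⟨inf_le_right, P.isPGroup'.to_le inf_le_left, htame.1⟩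
  suffices h : K = ⊤ from h.ge (Subgroup.mem_top (⟨x, hx⟩ : N))
  refine top_le_iff.1 ((Fusion.sylow_sup_pResidual hsy.toSylow).ge.trans (sup_le (fun y hy => ?_) ?_))
  · rw [hsy.coe_toSylow] at hy
    have hyU : ((y : hs.bAut Q) : MulAut Q) ∈ hs.uAut Q := by
      have h := (Subgroup.mem_subgroupOf.1 hy).1
      rw [hP] at h
      exact h
    obtain ⟨t, htT, htn, hte⟩ := mem_autInducedBy.1 hyU
    exact ⟨conjMap t, isMap_conj _ nSub_le htT, fun q hq => by rw [hte, autMap_conjAut htn hq]⟩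
  · refine Cores.pResidual_le fun y hy => ?_
    obtain ⟨g, hg, hge⟩ := hs.exists_ext_coprime hQ hQn hI hYU (y : hs.bAut Q).2 (hnorm _ y.2)
      (by rwa [Subgroup.orderOf_coe, Subgroup.orderOf_coe])
    exact ⟨g, hg, hge⟩

/-- Conjugations connected inside the candidate extend. -/
theorem exists_ext_conn {Q : Subgroup Ω} (hQ : InH θ Z D Q) (hQn : F.IsFullyNormalized Q)
    [Finite (hs.bAut Q)] (P : Sylow p (hs.bAut Q))
    (hP : (P : Subgroup (hs.bAut Q)) = (hs.uAut Q).subgroupOf (hs.bAut Q))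
    {A : Set (hs.bAut Q)} {g : hs.bAut Q} (h : Fusion.Conn P A g) :
    ∀ Y : Subgroup (MulAut Q), Inn Q ≤ Y → Y ≤ hs.uAut Q →
      (∀ y : hs.bAut Q, (y : MulAut Q) ∈ Y → y ∈ A) →
      ∃ f, IsMap hs.D0 (nSub (preimageAlong θ T) Q Y) f ∧
        ∀ q ∈ Q, f q = autMap ((g : MulAut Q))⁻¹ q := by
  have hQT := hQ.2.1
  induction h with
  | refl A =>
    exact fun Y _ _ _ => ⟨id, isMap_id _ nSub_le, fun q hq => by
      rw [Subgroup.coe_one, inv_one, FusionSys.autMap_one hq, id]⟩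
  | step A g x P' htame hA hx _ ih =>
    intro Y hYI hYU hYA
    set Y0 : Subgroup (hs.bAut Q) := (P : Subgroup (hs.bAut Q)) ⊓ (P' : Subgroup (hs.bAut Q)) with hY0
    have hYle : Y ≤ Y0.map (hs.bAut Q).subtype := fun y hy =>
      ⟨⟨y, hs.uAut_le_bAut (hYU hy)⟩, hA (hYA _ hy), rfl⟩
    obtain ⟨f, hf, hfe⟩ := hs.exists_ext_tame hQ hQn P P' hP htame (hYI.trans hYle)
      (inv_mem hx)
    set Y1 := Y.comap (MulAut.conj (x : MulAut Q)).toMonoidHom with hY1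
    have hY1U : Y1 ≤ hs.uAut Q := fun y hy => by
      obtain ⟨z, hz, hze⟩ := hYle hy
      have h1 : ((x⁻¹ * z * x : hs.bAut Q) : MulAut Q) = y := by
        have hze' : (z : MulAut Q) = x * y * (x : MulAut Q)⁻¹ := hze
        simp only [Subgroup.coe_mul, Subgroup.coe_inv, hze']
        group
      have h2 := ((Subgroup.mem_normalizer_iff.1 (inv_mem hx) z).1 hz).1
      rw [inv_inv, hP] at h2
      exact h1 ▸ h2
    obtain ⟨f1, hf1, hf1e⟩ := ih Y1 (inn_conj hYI _) hY1U fun y hy =>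
      ⟨x * y * x⁻¹, hYA _ hy, by group⟩
    refine ⟨f1 ∘ f, (hf.mono ?_).comp hf1 fun n hn => hs.mapsTo_nSub hQT hYI
      ((isMap_of_sub hs.D0_sub hf).mono ?_) hfe (fun y hy => ?_) hn, fun q hq => ?_⟩
    · exact Subgroup.map_mono (Subgroup.comap_mono hYle)
    · exact Subgroup.map_mono (Subgroup.comap_mono hYle)
    · show (x : MulAut Q) * (((x⁻¹ : hs.bAut Q) : MulAut Q) * y * ((x⁻¹ : hs.bAut Q) : MulAut Q)⁻¹) *
        (x : MulAut Q)⁻¹ ∈ Y
      simpa [mul_assoc] using hy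
    · rw [Function.comp_apply, hfe q hq, hf1e _ (autMap_mem _ hq), Subgroup.coe_mul,
        _root_.mul_inv_rev, Subgroup.coe_inv, autMap_mul _ _ hq]

/-- The fully normalized members of the class are receptive in the lifted subsystem. -/
theorem isReceptive_D0 {Q : Subgroup Ω} (hQ : InH θ Z D Q) (hQn : F.IsFullyNormalized Q)
    (hL : SatAbove hs.D0 p (Nat.card Q)) : hs.D0.IsReceptive Q := by
  haveI := hs.finite_T0
  have hQT := hQ.2.1
  haveI := finite_of_le (hQT.trans hs.T0_le)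
  haveI := finite_mulAut_of_le (hQT.trans hs.T0_le)
  refine receptive_of_extend hQT fun A f N hf hAN hN => ?_
  rcases hQT.eq_or_lt with hQe | hQlt
  · subst hQe
    have hAe : A = preimageAlong θ T := eq_S_of_isConj (isConj_symm hf.isConj)
    exact ⟨f, hf.isMap.mono (fun x hx => hAe.symm ▸ ((hN x).1 hx).1), fun _ _ => rfl⟩
  obtain ⟨ψ, hψ⟩ := hs.exists_good hQlt hQn hL hf.isConj
  obtain ⟨v, hv, hv1, -⟩ := hψ.2.exists_symm
  obtain ⟨b, hbD, hbe⟩ := (hv.comp hf).exists_aut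
  have hb : b ∈ hs.bAut Q := hs.autGroup_le_bAut hQ hQn hL hbD
  have hNN : N ≤ normalizerIn (preimageAlong θ T) A := fun x hx =>
    ⟨((hN x).1 hx).1, ((hN x).1 hx).2.1⟩
  have hψN := hψ.1.mono hNN
  set M := imgSub ψ N with hM
  have hQM : Q ≤ M := by
    rw [hψ.2.eq_imgSub]
    exact Subgroup.closure_mono (Set.image_mono hAN)
  have hMT : M ≤ preimageAlong θ T := hψN.imgSub_le
  set Y := autInducedBy M Q with hY
  have hYI : Inn Q ≤ Y := by
    rw [inn_eq_autInducedBy_self]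
    exact autInducedBy_mono hQM
  have hYU : Y ≤ hs.uAut Q := autInducedBy_mono hMT
  have hbY : ∀ y ∈ Y, b * y * b⁻¹ ∈ hs.uAut Q := by
    intro y hy
    obtain ⟨m, hm, hmn, rfl⟩ := mem_autInducedBy.1 hy
    obtain ⟨n, hn, rfl⟩ := hψN.mem_imgSub.1 hm
    obtain ⟨hnT, hnn, w, hwT, hwe⟩ := (hN n).1 hn
    have hwn : w ∈ Subgroup.normalizer (Q : Set Ω) := mem_normalizer_of_maps fun z hz => by
      obtain ⟨a, ha, rfl⟩ := hf.exists_preimage hz
      rw [← hwe a ha]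
      exact hf.mem ((Subgroup.mem_normalizer_iff.1 hnn a).1 ha)
    refine mem_autInducedBy.2 ⟨w, hwT, hwn, aut_ext fun z hz => ?_⟩
    obtain ⟨a, ha, rfl⟩ := hf.exists_preimage hz
    have hψa : ψ a ∈ Q := hψ.2.mem ha
    have hba : autMap b (ψ a) = f a := by rw [hbe _ hψa, Function.comp_apply, hv1 a ha]
    have hna := (Subgroup.mem_normalizer_iff.1 hnn a).1 ha
    rw [autMap_conjAut hwn (hf.mem ha), conjMap_apply, ← hba, autMap_mul _ _ (autMap_mem _ hψa),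
      S5114.inv_autMap_apply b hψa, autMap_mul _ _ hψa, autMap_conjAut hmn hψa, conjMap_apply,
      ← hψN.map_conj hn (hAN ha), hbe _ (hψ.2.mem hna), Function.comp_apply, hv1 _ hna, hwe a ha, hba]
  haveI : Finite (hs.bAut Q) := inferInstance
  have hsy := hs.isSylowIn_bAut hQ hQn
  obtain ⟨h, hh, hhe⟩ := hs.exists_ext_conn hQ hQn hsy.toSylow hsy.coe_toSylow
    (Fusion.alperin hsy.toSylow (A := {y : hs.bAut Q | (y : MulAut Q) ∈ Y})
      (g := (⟨b, hb⟩ : hs.bAut Q)⁻¹) (fun y hy => by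
        show y ∈ (hsy.toSylow : Subgroup (hs.bAut Q))
        rw [hsy.coe_toSylow]; exact hYU hy) (by
      rintro _ ⟨y, hy, rfl⟩
      show ((⟨b, hb⟩ : hs.bAut Q)⁻¹)⁻¹ * y * (⟨b, hb⟩ : hs.bAut Q)⁻¹ ∈
        (hsy.toSylow : Subgroup (hs.bAut Q))
      rw [hsy.coe_toSylow]
      show ((((⟨b, hb⟩ : hs.bAut Q)⁻¹)⁻¹ * y * (⟨b, hb⟩ : hs.bAut Q)⁻¹ : hs.bAut Q) : MulAut Q) ∈ hs.uAut Q
      simpa using hbY _ hy))
    Y hYI hYU fun _ hy => hy
  refine ⟨h ∘ ψ, hψN.comp hh fun n hn => mem_nSub.2 ⟨⟨hψN.mem_S hn, (hψ.mem (hNN hn)).2⟩,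
    mem_autInducedBy.2 ⟨ψ n, hψN.mem_imgSub.2 ⟨n, hn, rfl⟩, _, rfl⟩⟩, fun a ha => ?_⟩
  rw [Function.comp_apply, hhe _ (hψ.2.mem ha), Subgroup.coe_inv, inv_inv, hbe _ (hψ.2.mem ha),
    Function.comp_apply, hv1 a ha]

theorem isFullyAutomized_D0 {Q : Subgroup Ω} (hQ : InH θ Z D Q) (hQn : F.IsFullyNormalized Q)
    (hL : SatAbove hs.D0 p (Nat.card Q)) : hs.D0.IsFullyAutomized p Q := by
  haveI := hs.finite_T0
  have heq : hs.D0.autGroup Q = hs.bAut Q :=
    le_antisymm (hs.autGroup_le_bAut hQ hQn hL) (hs.bAut_le_D0 hQ)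
  refine (isFullyAutomized_iff (hs.hS.to_le hs.T0_le)).2 ⟨hQ.2.1, ?_⟩
  rw [heq]
  exact (hs.isSylowIn_bAut hQ hQn).ndvd

variable {a : MulAut (preimageAlong θ T)}

theorem isMap_D0_tw (ha : a ∈ F.autGroup (preimageAlong θ T)) {P : Subgroup Ω} {f : Ω → Ω}
    (h : IsMap hs.D0 P f) : IsMap hs.D0 (imgSub (autMap a) P) (tw a f) :=
  hs.isMap_D0.2 (hs.inD_tw ha (hs.isMap_D0.1 h))

theorem receptive_transport (ha : a ∈ F.autGroup (preimageAlong θ T)) {R : Subgroup Ω}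
    (hR : R ≤ preimageAlong θ T) (h : hs.D0.IsReceptive (imgSub (autMap a) R)) :
    hs.D0.IsReceptive R := by
  haveI := hs.finite_T0
  have hb := hs.isMap_aut ha
  have hb' := hs.isMap_aut (inv_mem ha)
  have hinv : ∀ {x : Ω}, x ∈ preimageAlong θ T → autMap a⁻¹ (autMap a x) = x :=
    fun hx => S5114.inv_autMap_apply a hx
  refine receptive_of_extend hR fun A f N hf hAN hN => ?_
  have hA := hf.source_le
  have hNT : N ≤ preimageAlong θ T := fun x hx => ((hN x).1 hx).1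
  have hfa : IsIso hs.D0 (imgSub (autMap a) A) (imgSub (autMap a) R) (tw a f) := by
    refine ⟨hs.isMap_D0_tw ha hf.isMap, Set.ext fun z => ⟨?_, fun hz => ?_⟩⟩
    · rintro ⟨w, hw, rfl⟩
      obtain ⟨x, hx, rfl⟩ := (hb.mono hA).mem_imgSub.1 hw
      rw [tw_apply a f (hA hx)]
      exact (hb.mono hR).mem_imgSub.2 ⟨f x, hf.mem hx, rfl⟩
    · obtain ⟨r, hr, rfl⟩ := (hb.mono hR).mem_imgSub.1 hz
      obtain ⟨x, hx, rfl⟩ := hf.exists_preimage hr
      exact ⟨autMap a x, (hb.mono hA).mem_imgSub.2 ⟨x, hx, rfl⟩, tw_apply a f (hA hx)⟩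
  obtain ⟨g, hg, hge⟩ := receptive_extend h hfa (N := imgSub (autMap a) N) fun z hz => by
    obtain ⟨n, hn, rfl⟩ := (hb.mono hNT).mem_imgSub.1 hz
    obtain ⟨hnT, hnn, w, hwT, hwe⟩ := (hN n).1 hn
    haveI := finite_of_le hA
    haveI := finite_of_le (S := preimageAlong θ T) hfa.source_le
    refine ⟨autMap_mem a hnT, mem_normalizer_of_maps fun u hu => ?_, autMap a w, autMap_mem a hwT,
      fun u hu => ?_⟩
    · obtain ⟨x, hx, rfl⟩ := (hb.mono hA).mem_imgSub.1 hu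
      rw [← hb.map_conj hnT (hA hx)]
      exact (hb.mono hA).mem_imgSub.2 ⟨_, (Subgroup.mem_normalizer_iff.1 hnn x).1 hx, rfl⟩
    · obtain ⟨x, hx, rfl⟩ := (hb.mono hA).mem_imgSub.1 hu
      have hx' := (Subgroup.mem_normalizer_iff.1 hnn x).1 hx
      rw [← hb.map_conj hnT (hA hx), tw_apply a f (hA hx'), tw_apply a f (hA hx), hwe x hx,
        hb.map_conj hwT (hf.isMap.mem_S hx)]
  replace hg := hg.mono (le_sup_left : imgSub (autMap a) N ≤ _)
  have hN' : imgSub (autMap a⁻¹) (imgSub (autMap a) N) = N := by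
    rw [← (hb.mono hNT).imgSub_comp, imgSub_congr (f := id) (g := autMap a⁻¹ ∘ autMap a)
      (fun x hx => hinv (hNT hx))]
    exact ((isIso_id hs.D0 hNT).eq_imgSub).symm
  refine ⟨tw a⁻¹ g, hN' ▸ hs.isMap_D0_tw (inv_mem ha) hg, fun x hx => ?_⟩
  show autMap a⁻¹ (g (autMap a⁻¹⁻¹ x)) = f x
  rw [inv_inv, hge _ ((hb.mono hA).mem_imgSub.2 ⟨x, hx, rfl⟩), tw_apply a f (hA hx),
    hinv (hf.isMap.mem_S hx)]

theorem automized_transport (ha : a ∈ F.autGroup (preimageAlong θ T)) {R : Subgroup Ω}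
    (hR : R ≤ preimageAlong θ T) (h : hs.D0.IsFullyAutomized p (imgSub (autMap a) R)) :
    hs.D0.IsFullyAutomized p R := by
  haveI := hs.finite_T0
  have hb := hs.isMap_aut ha
  have hb' := hs.isMap_aut (inv_mem ha)
  have hT0p : IsPGroup p (preimageAlong θ T) := hs.hS.to_le hs.T0_le
  refine (isFullyAutomized_iff hT0p).2 ⟨hR, fun hd => ((isFullyAutomized_iff hT0p).1 h).2 ?_⟩
  have hi : IsIso F R (imgSub (autMap a) R) (autMap a) := (hb.mono hR).isIso
  haveI := finite_of_le hi.source_le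
  haveI := finite_of_le hi.target_le
  have hA : (hs.D0.autGroup R).map hi.autEquiv.toMonoidHom ≤ hs.D0.autGroup (imgSub (autMap a) R) := by
    rintro _ ⟨α, hα, rfl⟩
    refine mem_autGroup_of_isMap ((hs.isMap_D0_tw ha (autGroup_set_subgroup hR hα)).congr fun z hz => ?_)
    obtain ⟨x, hx, rfl⟩ := (hb.mono hR).mem_imgSub.1 hz
    rw [tw_apply a _ (hR hx)]
    exact hi.autMap_autEquiv α hx
  have hU : autInducedBy (preimageAlong θ T) (imgSub (autMap a) R) ≤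
      (autInducedBy (preimageAlong θ T) R).map hi.autEquiv.toMonoidHom := by
    intro u hu
    obtain ⟨t, htT, htn, rfl⟩ := mem_autInducedBy.1 hu
    obtain ⟨s, hsT, rfl⟩ : ∃ s ∈ preimageAlong θ T, autMap a s = t :=
      ⟨_, autMap_mem _ htT, autMap_inv_apply a htT⟩
    have hsn : s ∈ Subgroup.normalizer (R : Set Ω) := mem_normalizer_of_maps fun x hx => by
      have h1 := (Subgroup.mem_normalizer_iff.1 htn _).1 ((hb.mono hR).mem_imgSub.2 ⟨x, hx, rfl⟩)
      rw [← hb.map_conj hsT (hR hx)] at h1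
      obtain ⟨y, hy, hye⟩ := (hb.mono hR).mem_imgSub.1 h1
      rwa [← hb.injOn (hR hy) (mul_mem (mul_mem hsT (hR hx)) (inv_mem hsT)) hye]
    refine ⟨conjAut hsn, mem_autInducedBy.2 ⟨s, hsT, hsn, rfl⟩, aut_ext fun z hz => ?_⟩
    obtain ⟨x, hx, rfl⟩ := (hb.mono hR).mem_imgSub.1 hz
    show autMap (hi.autEquiv (conjAut hsn)) (autMap a x) = _
    rw [hi.autMap_autEquiv _ hx, autMap_conjAut hsn hx, conjMap_apply, autMap_conjAut htn hz,
      conjMap_apply, hb.map_conj hsT (hR hx)]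
  rw [← Subgroup.relIndex_map_map_of_injective _ _ (f := hi.autEquiv.toMonoidHom)
    hi.autEquiv.injective] at hd
  refine (hd.trans (Subgroup.relIndex_dvd_of_le_left _ hU)).trans ?_
  rw [← Subgroup.relIndex_mul_relIndex _ _ _ (hU.trans (Subgroup.map_mono
    (autInducedBy_le_autGroup hs.D0 hR))) hA]
  exact dvd_mul_right _ _

/-- A conjugate in the lifted system carried to a fully normalized one by an automorphism of `T₀`. -/
theorem exists_rep {P : Subgroup Ω} (hP : P ≤ preimageAlong θ T) :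
    ∃ R, hs.D0.IsConj P R ∧ ∃ a ∈ F.autGroup (preimageAlong θ T),
      F.IsFullyNormalized (imgSub (autMap a) R) := by
  obtain ⟨Q, hQ, hQn⟩ := exists_isFullyNormalized F (hP.trans hs.T0_le)
  obtain ⟨f, hf⟩ := isConj_iff.1 hQ
  obtain ⟨a, ha, d, hd, hde⟩ := hs.frattini hP hf.isMap
  have hdm := hs.isMap_D0.2 hd
  refine ⟨imgSub d P, hdm.isIso.isConj, a, ha, ?_⟩
  rwa [← hdm.imgSub_comp, imgSub_congr (f := f) (g := autMap a ∘ d) fun x hx => (hde x hx).symm,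
    ← hf.eq_imgSub]

theorem inH_conj {P R : Subgroup Ω} (h : hs.D0.IsConj P R) (hP : InH θ Z D P) : InH θ Z D R := by
  obtain ⟨f, hf⟩ := isConj_iff.1 h
  exact hs.inH_map hP (hs.isIso_D0 hf)

theorem inH_iso {P R : Subgroup Ω} {f : Ω → Ω} (hf : IsIso F P R f) :
    InH θ Z D P ↔ InH θ Z D R := by
  refine ⟨fun h => hs.inH_map h hf, fun h => ?_⟩
  obtain ⟨v, hv, -, -⟩ := hf.exists_symm
  exact hs.inH_map h hv

/-- The lifted subsystem is saturated. -/
theorem isSaturated_D0 : hs.D0.IsSaturated p := by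
  haveI := hs.finite_T0
  set T₀ := preimageAlong θ T with hT₀
  have hT0p : IsPGroup p T₀ := hs.hS.to_le hs.T0_le
  suffices H : ∀ (k : ℕ) (P : Subgroup Ω), P ≤ T₀ → Nat.card T₀ ≤ k + Nat.card P →
      ∃ Q, hs.D0.IsConj P Q ∧ hs.D0.IsFullyAutomized p Q ∧ hs.D0.IsReceptive Q from
    fun P hP => H (Nat.card T₀) P hP (Nat.le_add_right _ _)
  intro k P hP hk
  induction k using Nat.strong_induction_on generalizing P with
  | _ k ih =>
  have hL : SatAbove hs.D0 p (Nat.card P) := fun R hR hlt => ih (Nat.card T₀ - Nat.card R)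
    (by
      have h : Nat.card R ≤ Nat.card T₀ := Subgroup.card_le_of_le hR
      omega) R hR (by omega)
  obtain ⟨R0, hR0, a, ha, hQn⟩ := hs.exists_rep hP
  have hR0T := le_of_isConj_right hR0
  have hi : IsIso F R0 (imgSub (autMap a) R0) (autMap a) := ((hs.isMap_aut ha).mono hR0T).isIso
  by_cases hPH : InH θ Z D P
  · have hQ := (hs.inH_iso hi).1 (hs.inH_conj hR0 hPH)
    have hcard : Nat.card (imgSub (autMap a) R0) = Nat.card P :=
      hi.card_eq.symm.trans (card_eq_of_isConj hR0).symm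
    exact ⟨R0, hR0, hs.automized_transport ha hR0T (hs.isFullyAutomized_D0 hQ hQn (hcard ▸ hL)),
      hs.receptive_transport ha hR0T (hs.isReceptive_D0 hQ hQn (hcard ▸ hL))⟩
  have hout : ∀ Q, hs.D0.IsConj Q P → ¬ InH θ Z D Q := fun Q hQ h => hPH (hs.inH_conj hQ h)
  refine exists_automized_receptive hT0p hP hL (fun E' hE' => le_iff_isMap.2 fun A f hf =>
      hs.isMap_D0.1 hf E' fun Q α hQ hα hi' => hE' Q _ (hs.hasGens_D0 Q α hQ hα hi')
        fun hc => hout Q hc hQ)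
    (fun Q hQ => lt_of_le_of_ne (le_of_isConj_left hQ) fun h => hout Q hQ (h ▸ hs.inH_T0)) ?_
  intro P' hPP' hP'n hgood
  refine lt_of_le_of_ne (le_kSub hT0p hP'n.1) fun he => ?_
  have hcen : ∀ Q, hs.D0.IsConj P' Q → centralizerIn T₀ Q ≤ Q := fun Q hQ x hx => by
    obtain ⟨ψ, hψ⟩ := hgood Q (isConj_symm hQ)
    have hQN : Q ≤ normalizerIn T₀ Q := le_normalizerIn_self hψ.2.source_le
    have hxN := centralizerIn_le_normalizerIn hx
    have h1 : ψ x ∈ P' := he ▸ centralizerIn_le_kSub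
      (hψ.2.mem_centralizerIn_of_extends hψ.1 hQN (fun _ _ => rfl) hxN hx)
    obtain ⟨y, hy, hyx⟩ := hψ.2.exists_preimage h1
    obtain rfl : y = x := hψ.1.injOn (hQN hy) hxN hyx
    exact hy
  have hPR : hs.D0.IsConj P' R0 := isConj_trans (isConj_symm hPP') hR0
  have hZR : Z ≤ R0 := fun z hz => hcen R0 hPR (FusionSys.mem_centralizerIn.2
    ⟨hs.Z_le_T0 hz, fun r hr => hs.Z_comm hz (hs.T0_le (hR0T hr))⟩)
  have hQT : imgSub (autMap a) R0 ≤ T₀ := target_le_of_closed hs.T0_closed hR0T hi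
  have hQH : ¬ InH θ Z D (imgSub (autMap a) R0) := fun h =>
    hout R0 (isConj_symm hR0) ((hs.inH_iso hi).2 h)
  have hZQ : Z ≤ imgSub (autMap a) R0 := fun z hz => by
    have := hi.mem (hZR hz)
    rwa [hs.fix hi.isMap (hZR hz) hz] at this
  obtain ⟨x, hxT, hxQ, hxn, hxd⟩ := hs.exists_extra hQT hQn hZQ fun hc => hQH ⟨hZQ, hQT, hc⟩
  obtain ⟨y, hyT, rfl⟩ : ∃ y ∈ T₀, autMap a y = x :=
    ⟨_, autMap_mem _ hxT, autMap_inv_apply a hxT⟩
  have ham := hs.isMap_aut ha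
  have hyd : ∀ r ∈ R0, r⁻¹ * (y * r * y⁻¹) ∈ Z := fun r hr => by
    have hrT := hR0T hr
    have hmem := mul_mem (inv_mem hrT) (mul_mem (mul_mem hyT hrT) (inv_mem hyT))
    have h1 := hxd _ (hi.mem hr)
    rw [← ham.map_conj hyT hrT, ← ham.map_inv hrT, ← ham.map_mul (inv_mem hrT)
      (mul_mem (mul_mem hyT hrT) (inv_mem hyT))] at h1
    rw [← ham.injOn (hs.Z_le_T0 h1) hmem (hs.fix ham (hs.Z_le_T0 h1) h1)]
    exact h1
  haveI := finite_of_le hR0T
  have hyR : y ∈ Subgroup.normalizer (R0 : Set Ω) := mem_normalizer_of_maps fun r hr => by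
    have := mul_mem hr (hZR (hyd r hr))
    rwa [mul_inv_cancel_left] at this
  have hyK : conjAut hyR ∈ kerAut F Z R0 :=
    hs.conjAut_mem_kerAut (hR0T.trans hs.T0_le) ⟨hs.T0_le hyT, hyR⟩ hyd
  obtain ⟨ψ, hψ⟩ := hgood R0 (isConj_symm hPR)
  have hyN : y ∈ normalizerIn T₀ R0 := ⟨hyT, hyR⟩
  have hop : conjAut hyR ∈ opAut hs.D0 p R0 := by
    have hD : conjAut hyR ∈ hs.D0.autGroup R0 := conjAut_mem_autGroup hs.D0 hR0T hyN
    haveI : ((kerAut F Z R0).subgroupOf (hs.D0.autGroup R0)).Normal := ⟨fun k hk g =>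
      hs.kerAut_conj (hR0T.trans hs.T0_le) hZR
        (mem_autGroup_of_isMap (isMap_of_sub hs.D0_sub ((mem_autGroup_iff hR0T).1 g.2))) hk⟩
    exact ⟨⟨_, hD⟩, Cores.le_pCore (N := (kerAut F Z R0).subgroupOf (hs.D0.autGroup R0))
      ((hs.isPGroup_kerAut (hR0T.trans hs.T0_le) hZR).comap_of_injective _
        (hs.D0.autGroup R0).subtype_injective) hyK, rfl⟩
  have hψy := hψ.mem hyN
  have hRN : R0 ≤ normalizerIn T₀ R0 := le_normalizerIn_self hR0T
  have h1 : ψ y ∈ P' := he ▸ mem_kSub.2 ⟨hψy, by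
    rw [← hψ.2.autEquiv_conjAut hψ.1 hRN (fun _ _ => rfl) hyN hyR hψy.2]
    exact hψ.2.autEquiv_mem_opAut hop⟩
  obtain ⟨r, hr, hre⟩ := hψ.2.exists_preimage h1
  obtain rfl : r = y := hψ.1.injOn (hRN hr) hyN hre
  exact hxQ (hi.mem hr)

/-- The lifted subsystem is weakly normal. -/
theorem isWeaklyNormal_D0 : hs.D0.IsWeaklyNormalIn F p := by
  refine ⟨hs.isSaturated_D0, hs.hF, hs.D0_sub, hs.T0_closed, fun P hP φ hφ a ha => ?_, fun P hP φ hφ => ?_⟩
  · have ham := hs.isMap_aut ha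
    have hm := hs.isMap_D0_tw ha (isMap_of_mem hφ)
    have himg : (P.subgroupOf (preimageAlong θ T)).map
        ((preimageAlong θ T).subtype.comp a.toMonoidHom) = imgSub (autMap a) P := by
      ext z
      constructor
      · rintro ⟨w, hw, rfl⟩
        exact (ham.mono hP).mem_imgSub.2 ⟨w, hw, autMap_coe a w⟩
      · intro hz
        obtain ⟨x, hx, rfl⟩ := (ham.mono hP).mem_imgSub.1 hz
        exact ⟨⟨x, hP hx⟩, hx, (autMap_apply a (hP hx)).symm⟩
    rw [← himg] at hm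
    obtain ⟨χ, hχ, hχe⟩ := hm
    refine ⟨χ, hχ, fun x hx hax => ?_⟩
    rw [hχe ⟨_, hax⟩]
    show tw a (homFun φ) ((a ⟨x, hP x.2⟩ : preimageAlong θ T) : Ω) = _
    rw [← autMap_apply a hx, ← autMap_apply a (hP x.2), tw_apply a _ (hP x.2), homFun_coe φ x]
  · obtain ⟨a, ha, d, hd, hde⟩ := hs.frattini hP (isMap_of_mem hφ)
    obtain ⟨ψ, hψ, hψe⟩ := hs.isMap_D0.2 hd
    refine ⟨a, ha, ψ, hψ, fun x hx => ?_⟩
    rw [← homFun_coe φ x, hde x x.2, ← autMap_apply a hx, hψe x]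

end Setup

end Cfsg.Agent.H89.Lift
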