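import Cfsg.Agent.H89.Lift.Sat
import Cfsg.Agent.H89.CentralizerNormal
import Cfsg.Agent.H90.Tate
import Cfsg.Agent.Fusion.PPower.Exists
import Cfsg.Agent.Fusion.PPower.Normal

/-!
A saturated system that is not constrained has a component.
-/

set_option autoImplicit false
set_option linter.style.haveILetI false
set_option linter.unusedSectionVars false

namespace Cfsg.Agent.H89.Lift

open Cfsg Cfsg.FusionSystem Cfsg.Agent.FusionSys Cfsg.Agent.H91.CentFocal
open Cfsg.Agent.H89 (mem_preimageAlong preimageAlong_le ker_le_preimageAlong mem_imageAlong KerEq)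
open Cfsg.FusionSystem (centralizerIn normalizerIn)

universe u

variable {Ω : Type u} [Group Ω] {S T : Subgroup Ω} {F : FusionSystem S} {D : FusionSystem T} {p : ℕ}

theorem hyp_le (F : FusionSystem S) (p : ℕ) : F.hyperfocalSubgroup p ≤ S := by
  refine (Subgroup.closure_le _).2 ?_
  rintro _ ⟨P, α, x, hP, -, rfl⟩
  exact S.mul_mem (S.inv_mem (hP x.2)) (hP ((α : MulAut P) x).2)

/-- Hom sets are determined by the maps. -/
theorem hom_eq_of_isMap {E E' : FusionSystem S} (h : ∀ P f, IsMap E P f ↔ IsMap E' P f) (P : Subgroup Ω) :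
    E.Hom P = E'.Hom P :=
  Set.ext fun _ => (Cfsg.Agent.FusionSys.mem_hom_iff_isMap).trans
    ((h P _).trans (Cfsg.Agent.FusionSys.mem_hom_iff_isMap).symm)

variable [Finite S] [Fact p.Prime]

theorem center_le_core (F : FusionSystem S) : F.center ≤ F.core :=
  le_core F (ComponentFix.isNormal_of_isCentral (isCentral_center F))

/-- The core of a normal subsystem lies in the core. -/
theorem core_le (hS : IsPGroup p S) (hD : D.IsNormalIn F p) : D.core ≤ F.core := by
  have hT := hD.1.2.2.2.1.1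
  haveI : Finite T := finite_of_le hT
  refine le_core F (H90.isNormal_of_weaklyNormal hS hD.1 (isNormal_core D) fun α hα x hx => ?_)
  exact le_core D (H90.isNormal_image hD.1.2.2 (isNormal_core D) hα) ⟨x, hx, rfl⟩

/-- In a normal subsystem of a system with central core the core is central. -/
theorem core_central (hS : IsPGroup p S) (hcore : F.core ≤ F.center) (hD : D.IsNormalIn F p) :
    D.core ≤ D.center := by
  have hT := hD.1.2.2.2.1.1
  haveI : Finite T := finite_of_le hT
  refine le_center D (isCentral_of_singleton (hS.to_le hT) hD.1.1 (isNormal_core D).1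
    fun P f hf x hx hxc => ?_)
  exact fix_of_isCentral (isCentral_center F) (isMap_of_sub hD.1.2.2.1 hf) hx
    (hcore (core_le hS hD hxc))

/-- If all automorphism groups are `p`-groups, the whole base is normal. -/
theorem isNormal_self_of_pGroup (hS : IsPGroup p S) (hF : F.IsSaturated p)
    (hp : ∀ P ≤ S, IsPGroup p (F.autGroup P)) : F.IsNormal S := by
  refine Cfsg.Agent.FusionSys.isNormal_iff.2 ⟨le_rfl, fun P f hf => ?_⟩
  obtain ⟨φ, hφ, hφe⟩ := hf
  rw [H90.eq_inner_of_autGroup_isPGroup hS hF hp] at hφ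
  obtain ⟨hP, a, ha, he⟩ := hφ
  refine ⟨conjMap a, isMap_conj F (sup_le hP le_rfl) ha, fun x hx => ?_,
    Set.ext fun y => ⟨?_, fun hy => ⟨a⁻¹ * y * a, S.mul_mem (S.mul_mem (S.inv_mem ha) hy) ha, ?_⟩⟩⟩
  · rw [conjMap_apply, ← hφe ⟨x, hx⟩, he]
  · rintro ⟨w, hw, rfl⟩
    exact S.mul_mem (S.mul_mem ha hw) (S.inv_mem ha)
  · rw [conjMap_apply]; group

/-- If the hyperfocal subgroup is central, the whole base is normal. -/
theorem isNormal_self_of_hyp (hS : IsPGroup p S) (hF : F.IsSaturated p)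
    (h : F.hyperfocalSubgroup p ≤ F.center) : F.IsNormal S := by
  have hp : ∀ P ≤ S, IsPGroup p (F.autGroup P) := fun P hP => by
    haveI := finite_of_le hP
    haveI := finite_autGroup F hP
    refine H90.isPGroup_of_coprime_eq_one fun α hα => Subtype.ext (aut_ext fun x hx => ?_)
    set z := x⁻¹ * autMap (α : MulAut P) x with hz
    have hzP : z ∈ P := P.mul_mem (P.inv_mem hx) (autMap_mem _ hx)
    have hzh : z ∈ F.hyperfocalSubgroup p := Subgroup.subset_closure
      ⟨P, α, ⟨x, hx⟩, hP, Cores.mem_pResidual_of_coprime hα, by rw [hz, autMap_apply _ hx]⟩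
    have hm := (isIso_autMap hP α.2).isMap
    have hpow : ∀ j : ℕ, autMap (((α : MulAut P)) ^ j) x = x * z ^ j := by
      intro j
      induction j with
      | zero => rw [pow_zero, pow_zero, FusionSys.autMap_one hx, mul_one]
      | succ j ih =>
        have hzj := P.pow_mem hzP j
        rw [pow_succ', autMap_mul _ _ hx, ih, hm.map_mul hx hzj,
          fix_of_isCentral (isCentral_center F) hm hzj (Subgroup.pow_mem _ (h hzh) j), pow_succ',
          ← mul_assoc x, hz, mul_inv_cancel_left]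
    have hzo : z ^ orderOf α = 1 := by
      have h1 := hpow (orderOf α)
      rw [← SubgroupClass.coe_pow, pow_orderOf_eq_one, Subgroup.coe_one, FusionSys.autMap_one hx] at h1
      exact mul_left_cancel (h1.symm.trans (mul_one x).symm)
    obtain ⟨k, hk⟩ := (hS.to_le hP) ⟨z, hzP⟩
    have hk' : z ^ p ^ k = 1 := congrArg Subtype.val hk
    have hz1 : z = 1 := orderOf_eq_one_iff.1 (Nat.eq_one_of_dvd_coprimes
      (Nat.Coprime.pow_right k hα) (orderOf_dvd_of_pow_eq_one hzo) (orderOf_dvd_of_pow_eq_one hk'))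
    rw [Subgroup.coe_one, FusionSys.autMap_one hx]
    exact (inv_mul_eq_one.1 (hz ▸ hz1)).symm
  exact isNormal_self_of_pGroup hS hF hp

/-- A saturated system whose core is central and proper has a component. -/
theorem exists_component (hS : IsPGroup p S) (hF : F.IsSaturated p) (hcore : F.core ≤ F.center)
    (hne : F.center ≠ S) : ∃ (U : Subgroup Ω) (C : FusionSystem U), C.IsComponentIn F p := by
  suffices H : ∀ (n m : ℕ) (R : Subgroup Ω) [Finite R], IsPGroup p R → ∀ G : FusionSystem R,
      G.IsSaturated p → G.core ≤ G.center → G.center ≠ R → Nat.card R = n →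
      Nat.card (G.autGroup R) = m → ∃ (U : Subgroup Ω) (C : FusionSystem U), C.IsComponentIn G p from
    H _ _ S hS F hF hcore hne rfl rfl
  intro n
  induction n using Nat.strong_induction_on with
  | _ n ihn =>
  intro m
  induction m using Nat.strong_induction_on with
  | _ m ihm =>
  intro R _ hR G hG hcore hne hn hm
  have hcen := isCentral_center G
  have hlift : ∀ {T : Subgroup Ω} {D : FusionSystem T}, D.IsNormalIn G p → ¬ T ≤ G.center →
      (Nat.card T < n ∨ Nat.card T = n ∧ Nat.card (D.autGroup T) < m) →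
      ∃ (U : Subgroup Ω) (C : FusionSystem U), C.IsComponentIn G p := by
    intro T D hD hTZ hsmall
    have hT := hD.1.2.2.2.1.1
    haveI : Finite T := finite_of_le hT
    have hDne : D.center ≠ T := fun h => hTZ
      (((h.ge.trans (center_le_core D)).trans (core_le hR hD)).trans hcore)
    obtain ⟨U, C, hC⟩ : ∃ (U : Subgroup Ω) (C : FusionSystem U), C.IsComponentIn D p := by
      rcases hsmall with h | ⟨he, h⟩
      · exact ihn _ h _ T (hR.to_le hT) D hD.1.1 (core_central hR hcore hD) hDne rfl rfl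
      · exact ihm _ h T (hR.to_le hT) D hD.1.1 (core_central hR hcore hD) hDne he rfl
    exact ⟨U, C, .step hC.1 hD, hC.2⟩
  by_cases hhyp : G.hyperfocalSubgroup p = R
  swap
  · have hle : G.hyperfocalSubgroup p ≤ R := hyp_le G p
    obtain ⟨D, hD, hDi⟩ := Fusion.PPower.exists_pPower hR hG hle le_rfl
    refine hlift (Fusion.PPower.isNormalIn hR hG hle (fun g hg x hx => H90.hyp_conj G p hg hx) hD hDi)
      (fun h => hne ?_) (Or.inl ?_)
    · exact le_antisymm hcen.1 ((le_core G (isNormal_self_of_hyp hR hG h)).trans hcore)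
    · rw [← hn]
      exact card_lt_of_lt (lt_of_le_of_ne hle hhyp)
  by_cases hq : G.Quasisimple p
  · exact ⟨R, G, .refl G p, hq⟩
  obtain ⟨E, hE, hns⟩ : ∃ E : FusionSystem (⊤ : Subgroup (R ⧸ (G.center).subgroupOf R)),
      G.IsFactorSystem G.center (QuotientGroup.mk' ((G.center).subgroupOf R)) E ∧ ¬ E.IsSimple p := by
    by_contra h
    push Not at h
    exact hq ⟨hG, hhyp, h⟩
  set θ := QuotientGroup.mk' ((G.center).subgroupOf R) with hθ
  have hEs : E.IsSaturated p :=
    H49.isSaturated_factor hR hG (stronglyClosed_of_isNormal (ComponentFix.isNormal_of_isCentral hcen)) hE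
  have hex : ∃ (T' : Subgroup (R ⧸ (G.center).subgroupOf R)) (D : FusionSystem T'), D.IsNormalIn E p ∧
      T' ≠ ⊥ ∧ ¬ (T' = ⊤ ∧ ∀ P, D.Hom P = E.Hom P) := by
    by_contra h
    push Not at h
    refine hns ⟨hEs, fun htop => hne (le_antisymm hcen.1 fun x hx => ?_), fun T' D hD =>
      or_iff_not_imp_left.2 fun hb => h T' D hD hb⟩
    have h1 : θ ⟨x, hx⟩ ∈ (⊤ : Subgroup (R ⧸ (G.center).subgroupOf R)) := Subgroup.mem_top _
    rw [htop, Subgroup.mem_bot] at h1
    exact (QuotientGroup.eq_one_iff (⟨x, hx⟩ : R)).1 h1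
  obtain ⟨T', D, hD, hT', hnot⟩ := hex
  have hs : Setup p G θ G.center E D := ⟨hR, hG, hcen, hE, hD⟩
  haveI := hs.finite_T0
  set T₀ := preimageAlong θ T' with hT₀
  have hN : (S5140.residual p hs.D0).IsNormalIn G p :=
    ResidualNormal.isNormalIn hR hs.isWeaklyNormal_D0
      (S5140.isSaturated_residual (hR.to_le hs.T0_le) hs.isSaturated_D0)
      (fun _ => Set.Subset.rfl) fun _ => Set.Subset.rfl
  have hTZ : ¬ T₀ ≤ G.center := fun h => hT' ((Subgroup.eq_bot_iff_forall _).2 fun y hy => by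
    obtain ⟨x, hx, rfl⟩ := hs.exists_th (hs.T_le hy)
    exact (hs.th_eq_one hx).2 (h (mem_pre.2 ⟨hx, hy⟩)))
  refine hlift hN hTZ ?_
  rcases hs.T0_le.eq_or_lt with he | hlt
  swap
  · exact Or.inl (hn ▸ card_lt_of_lt hlt)
  refine Or.inr ⟨(congrArg (fun K : Subgroup Ω => Nat.card K) he).trans hn, ?_⟩
  have hle : (S5140.residual p hs.D0).autGroup T₀ ≤ G.autGroup T₀ := fun α hα =>
    mem_autGroup_of_isMap (isMap_of_sub hN.1.2.2.1 ((mem_autGroup_iff le_rfl).1 hα))
  haveI := finite_autGroup G hs.T0_le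
  have hm' : Nat.card (G.autGroup T₀) = m :=
    (congrArg (fun K : Subgroup Ω => Nat.card (G.autGroup K)) he).trans hm
  refine lt_of_le_of_ne (hm' ▸ Subgroup.card_le_of_le hle) fun hc => hnot ?_
  have heq := Subgroup.eq_of_le_of_card_ge hle (by rw [hc, hm'])
  have hT'top : T' = ⊤ := by
    refine top_le_iff.1 fun y _ => ?_
    obtain ⟨x, hx, rfl⟩ := hs.exists_th (Subgroup.mem_top y)
    exact (mem_pre.1 (he.ge hx : x ∈ T₀)).2
  subst hT'top
  refine ⟨rfl, hom_eq_of_isMap fun P' f' => ⟨isMap_of_sub hD.1.2.2.1, fun hf' => ?_⟩⟩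
  obtain ⟨g, hg, hge⟩ := hs.exists_lift hf'
  have hPT : preimageAlong θ P' ≤ T₀ := (preimageAlong_le θ P').trans he.ge
  obtain ⟨a, ha, g₀, hg₀, hg₀e⟩ := frattini_map hN.1.2.2 hPT hg
  have ham : IsMap (S5140.residual p hs.D0) T₀ (autMap a) :=
    autGroup_set_subgroup le_rfl (heq.symm ▸ ha)
  have hgN : IsMap (S5140.residual p hs.D0) (preimageAlong θ P') g :=
    (hg₀.comp ham fun x hx => hg₀.mem_S hx).congr hg₀e
  obtain ⟨-, -, f'', hf'', hf''e⟩ :=
    hs.ind_of_inD (hs.isMap_D0.1 (isMap_of_sub S5140.residual_sub hgN))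
  have himg : P' ≤ imageAlong θ (preimageAlong θ P') := fun y hy => by
    obtain ⟨x, hx, rfl⟩ := hs.exists_th (Subgroup.mem_top y)
    exact th_mem_img (preimageAlong_le θ P') (mem_pre.2 ⟨hx, hy⟩)
  refine (hf''.mono himg).congr fun y hy => ?_
  obtain ⟨x, hx, rfl⟩ := hs.exists_th (Subgroup.mem_top y)
  rw [← hf''e x (mem_pre.2 ⟨hx, hy⟩), hge x (mem_pre.2 ⟨hx, hy⟩)]

/-- A subgroup normal in the system is its only conjugate. -/
theorem eq_of_isConj_normal {Q R : Subgroup Ω} (hQ : F.IsNormal Q) (hR : F.IsConj Q R) : R = Q := by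
  obtain ⟨f, hf⟩ := isConj_iff.1 hR
  haveI : Finite Q := finite_of_le hQ.1
  exact Subgroup.eq_of_le_of_card_ge (fun y hy => by
    obtain ⟨x, hx, rfl⟩ := hf.exists_preimage hy
    exact mem_of_normal hQ hf.isMap hx hx) hf.card_eq.le

theorem constrained_iff (hS : IsPGroup p S) (hF : F.IsSaturated p) :
    F.IsConstrained p ↔ ¬ ∃ (T : Subgroup Ω) (C : FusionSystem T), C.IsComponentIn F p := by
  constructor
  · rintro ⟨-, Q, hQn, hQc⟩ ⟨U, C, hC, hq⟩
    have hU := ComponentFix.le_centralizerIn hC hS hF hq hQn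
    have hUS : U ≤ S := hU.trans centralizerIn_le
    haveI : Finite U := finite_of_le hUS
    refine S5148.main (hS.to_le hUS) hq ⟨⟨fun a b => Subtype.ext ?_⟩⟩
    exact (FusionSys.mem_centralizerIn.1 (hU b.2)).2 a (centralizerIn_le_of_isCentric hQc (hU a.2))
  · intro hno
    refine ⟨hF, F.core, isNormal_core F, (isNormal_core F).1, fun R hR => ?_⟩
    rw [eq_of_isConj_normal (isNormal_core F) hR]
    by_contra hle
    set Q := F.core
    have hX := CentralizerNormal.isNormalIn hS hF (isNormal_core F)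
    haveI : Finite (centralizerIn S Q) := finite_of_le centralizerIn_le
    have hcc : (H91.centSys F (isNormal_core F).1).core ≤ (H91.centSys F (isNormal_core F).1).center := by
      refine le_center _ (isCentral_of_singleton (hS.to_le centralizerIn_le) hX.1.1
        (isNormal_core _).1 fun P f hf x hx hxc => ?_)
      obtain ⟨-, -, g, hg, hge, hgQ⟩ := CentralizerNormal.isMap_centSys.1 hf
      rw [← hge x hx, hgQ x (core_le hS hX hxc)]
    obtain ⟨U, C, hC⟩ := exists_component (hS.to_le centralizerIn_le) hX.1.1 hcc fun h =>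
      hle ((h.ge.trans (center_le_core _)).trans (core_le hS hX))
    exact hno ⟨U, C, .step hC.1 hX, hC.2⟩

end Cfsg.Agent.H89.Lift
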