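import Cfsg.Agent.H89.Lift.Frattini
import Cfsg.Agent.Fusion.Basic
import Cfsg.Agent.FusionSys.SaturationCriterion

/-!
The automorphism group of the lifted subsystem at a fully normalized subgroup with centric image: the group
generated by the elements of order prime to `p` inducing maps of `D` and by `Aut_{T₀}(Q)`.
-/

set_option autoImplicit false
set_option linter.style.haveILetI false
set_option linter.unusedSectionVars false

namespace Cfsg.Agent.H89.Lift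

open Cfsg Cfsg.FusionSystem Cfsg.Agent.FusionSys Cfsg.Agent.H91.CentFocal
open Cfsg.Agent.H89 (mem_preimageAlong preimageAlong_le ker_le_preimageAlong mem_imageAlong KerEq)
open Cfsg.Agent.H48 (IsSylowIn)
open Cfsg.FusionSystem (centralizerIn normalizerIn)
open scoped commutatorElement

universe u u'

variable {Ω : Type u} [Group Ω] {S : Subgroup Ω} {Ω' : Type u'} [Group Ω'] {S' T : Subgroup Ω'}
variable {p : ℕ} {F : FusionSystem S} {θ : S →* Ω'} {Z : Subgroup Ω} {E : FusionSystem S'}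
  {D : FusionSystem T}

namespace Setup

variable (hs : Setup p F θ Z E D)
include hs

/-- `Aut_{T₀}(Q)`. -/
def uAut (_hs : Setup p F θ Z E D) (Q : Subgroup Ω) : Subgroup (MulAut Q) :=
  autInducedBy (preimageAlong θ T) Q

/-- The candidate automorphism group. -/
noncomputable def bAut (Q : Subgroup Ω) : Subgroup (MulAut Q) :=
  (pResidual p (hs.indSys.autGroup Q)).map (hs.indSys.autGroup Q).subtype ⊔ hs.uAut Q

variable [Finite S] [Fact p.Prime] {Q : Subgroup Ω}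

theorem uAut_le_S : hs.uAut Q ≤ autInducedBy S Q := autInducedBy_mono hs.T0_le

theorem uAut_le_indAut (hQ : Q ≤ preimageAlong θ T) : hs.uAut Q ≤ hs.indSys.autGroup Q :=
  autInducedBy_le_autGroup hs.indSys hQ

theorem uAut_le_bAut : hs.uAut Q ≤ hs.bAut Q := le_sup_right

theorem bAut_le_indAut (hQ : Q ≤ preimageAlong θ T) : hs.bAut Q ≤ hs.indSys.autGroup Q :=
  sup_le (Subgroup.map_subtype_le _) (hs.uAut_le_indAut hQ)

/-- Elements of order prime to `p` lie in the candidate. -/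
theorem mem_bAut_of_coprime {α : MulAut Q} (hα : α ∈ hs.indSys.autGroup Q)
    (hco : (orderOf α).Coprime p) : α ∈ hs.bAut Q := by
  refine Subgroup.mem_sup_left ⟨⟨α, hα⟩, Cores.mem_pResidual_of_coprime ?_, rfl⟩
  rwa [Subgroup.orderOf_mk]

theorem bAut_le_D0 (hQ : InH θ Z D Q) : hs.bAut Q ≤ hs.D0.autGroup Q := by
  refine sup_le ?_ (autInducedBy_le_autGroup hs.D0 hQ.2.1)
  rw [Subgroup.map_le_iff_le_comap]
  refine Cores.pResidual_le fun α hα => ?_
  exact (mem_autGroup_iff hQ.2.1).2 (hs.isMap_D0.2 (InD.gen hQ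
    (by rwa [Subgroup.coe_subtype, Subgroup.orderOf_coe])
    ((hs.mem_indAut hQ.2.1).1 α.2)))

theorem conj_uAut {w u : MulAut Q} (hw : w ∈ autInducedBy S Q)
    (hu : u ∈ hs.uAut Q) : w * u * w⁻¹ ∈ hs.uAut Q := by
  obtain ⟨s, hsS, hsn, rfl⟩ := mem_autInducedBy.1 hw
  obtain ⟨t, htT, htn, rfl⟩ := mem_autInducedBy.1 hu
  refine mem_autInducedBy.2 ⟨s * t * s⁻¹, hs.T0_conj hsS htT,
    mul_mem (mul_mem hsn htn) (inv_mem hsn), ?_⟩
  show conjAutHom Q ⟨s, hsn⟩ * conjAutHom Q ⟨t, htn⟩ * (conjAutHom Q ⟨s, hsn⟩)⁻¹ = _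
  rw [← map_inv, ← map_mul, ← map_mul]
  rfl

/-- `Aut_{T₀}(Q)` is strongly closed in `Aut_S(Q)`. -/
theorem uAut_closed (hQ : Q ≤ preimageAlong θ T) (hQn : F.IsFullyNormalized Q) {α u : MulAut Q}
    (hα : α ∈ F.autGroup Q) (hu : u ∈ hs.uAut Q) (h : α * u * α⁻¹ ∈ autInducedBy S Q) :
    α * u * α⁻¹ ∈ hs.uAut Q := by
  obtain ⟨t, htT, htn, rfl⟩ := mem_autInducedBy.1 hu
  have hQS := hQn.1
  set N := (((autInducedBy S Q).comap (MulAut.conj α).toMonoidHom).comap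
    (conjAutIn (preimageAlong θ T) Q)).map (normalizerIn (preimageAlong θ T) Q).subtype with hN
  obtain ⟨g, hg, hge⟩ := receptive_extend (receptive_of_isFullyNormalized hs.hS hs.hF hQn)
    (isIso_autMap hQS hα) (N := N) fun y hy => by
      obtain ⟨⟨y, hyn⟩, hy', rfl⟩ := hy
      obtain ⟨s, hsS, hsn, hse⟩ := mem_autInducedBy.1
        (show α * conjAut hyn.2 * α⁻¹ ∈ autInducedBy S Q from hy')
      refine ⟨hs.T0_le hyn.1, hyn.2, s, hsS, fun z hz => ?_⟩
      have h := congrArg (fun a => autMap a (autMap α z)) hse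
      rw [autMap_conjAut hsn (autMap_mem _ hz), autMap_mul _ _ (autMap_mem _ hz),
        ← autMap_mul α⁻¹ α hz, inv_mul_cancel, FusionSys.autMap_one hz, autMap_mul _ _ hz,
        autMap_conjAut hyn.2 hz] at h
      exact h
  have hNT : N ⊔ Q ≤ preimageAlong θ T :=
    sup_le ((Subgroup.map_subtype_le _).trans normalizerIn_le) hQ
  have htN : t ∈ N ⊔ Q := Subgroup.mem_sup_left ⟨⟨t, htT, htn⟩, h, rfl⟩
  have hgt : g t ∈ preimageAlong θ T := (stronglyClosed_iff.1 hs.T0_closed).2 _ g hNT hg t htN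
  haveI := finite_of_le hQS
  have hn : g t ∈ Subgroup.normalizer (Q : Set Ω) :=
    ((IsIso.congr (isIso_autMap hQS hα) hge).mem_normalizerIn_of_extends hg le_sup_right
      (fun _ _ => rfl) htN htn).2
  refine mem_autInducedBy.2 ⟨g t, hgt, hn, aut_ext fun x hx => ?_⟩
  obtain ⟨y, hy, rfl⟩ := (isIso_autMap hQS hα).exists_preimage hx
  rw [autMap_conjAut hn (autMap_mem _ hy), autMap_mul _ _ (autMap_mem _ hy),
    ← autMap_mul α⁻¹ α hy, inv_mul_cancel, FusionSys.autMap_one hy, autMap_mul _ _ hy,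
    autMap_conjAut htn hy, conjMap_apply, conjMap_apply, ← hge y hy,
    ← hge _ ((Subgroup.mem_normalizer_iff.1 htn y).1 hy),
    hg.map_conj htN (Subgroup.mem_sup_right hy)]

variable (hQ : InH θ Z D Q) (hQn : F.IsFullyNormalized Q)
include hQ hQn

theorem comm_kerAut {α k : MulAut Q} (hα : α ∈ hs.indSys.autGroup Q) (hk : k ∈ kerAut F Z Q) :
    ∃ m ∈ hs.uAut Q, α * k * α⁻¹ = k * m := by
  obtain ⟨hZQ, hQT, hQc⟩ := hQ
  have hQS := hQn.1
  haveI := hs.finite_S'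
  haveI := hs.finite_T
  haveI := finite_of_le hQS
  haveI := finite_of_le (S := T) (hs.img_le_T hQT)
  obtain ⟨hαF, -, f', hf', hfe⟩ := (hs.mem_indAut hQT).1 hα
  have hf'i : IsIso D (imageAlong θ Q) (imageAlong θ Q) f' := isIso_of_mapsTo hf' fun y hy => by
    obtain ⟨x, -, hx, rfl⟩ := mem_img.1 hy
    rw [← hfe x hx]
    exact th_mem_img hQS (autMap_mem α hx)
  obtain ⟨β, hβ, hβe⟩ := hf'i.exists_aut
  obtain ⟨g', hg', hg'Q, hg'C⟩ :=
    hasExt_all hs.isPGroup_S' hs.E_saturated hs.hD hQc (hs.img_isFullyNormalized hQn hZQ) hβ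
  obtain ⟨g, hg, hge⟩ := hs.exists_lift hg'
  obtain ⟨y, hyS, hyn, rfl⟩ := mem_autInducedBy.1 (hs.kerAut_le_autInducedBy hQn hZQ hk)
  have hW : ∀ {x : Ω}, x ∈ Q → x ∈ preimageAlong θ (imageAlong θ Q ⊔ centralizerIn S' (imageAlong θ Q)) :=
    fun hx => mem_pre.2 ⟨hQS hx, Subgroup.mem_sup_left (th_mem_img hQS hx)⟩
  have hyC : th θ y ∈ centralizerIn S' (imageAlong θ Q) := by
    refine FusionSys.mem_centralizerIn.2 ⟨hs.th_mem hyS, fun r hr => ?_⟩
    obtain ⟨q, hqS, hq, rfl⟩ := mem_img.1 hr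
    have h := hk.2 q hq
    rw [autMap_conjAut hyn hq, conjMap_apply] at h
    have hc := mul_mem (mul_mem hyS hqS) (inv_mem hyS)
    rw [← hs.th_eq_one (mul_mem (inv_mem hqS) hc), th_diff hqS hc, th_conj hyS hqS,
      inv_mul_eq_one, eq_mul_inv_iff_mul_eq] at h
    exact h
  have hyW : y ∈ preimageAlong θ (imageAlong θ Q ⊔ centralizerIn S' (imageAlong θ Q)) :=
    mem_pre.2 ⟨hyS, Subgroup.mem_sup_right hyC⟩
  have hgQ : ∀ q ∈ Q, th θ (g q) = th θ (autMap α q) := fun q hq => by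
    rw [hge q (hW hq), hg'Q _ (th_mem_img hQS hq), hβe _ (th_mem_img hQS hq), hfe q hq]
  obtain ⟨G, hG, hGe⟩ := (isIso_of_mapsTo (hg.mono fun x hx => hW hx) fun q hq =>
    mem_of_th_mem hs.ker hZQ hQS (hg.mem_S (hW hq))
      (hgQ q hq ▸ th_mem_img hQS (autMap_mem α hq))).exists_aut
  have hαA : α ∈ F.autGroup Q := hs.indAut_le hQT hα
  have hk' : α⁻¹ * G ∈ kerAut F Z Q := by
    refine ⟨mul_mem (inv_mem hαA) hG, fun x hx => ?_⟩
    have hz : (autMap α x)⁻¹ * autMap G x ∈ Z := by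
      rw [← hs.th_eq_one (mul_mem (inv_mem (hQS (autMap_mem α hx))) (hQS (autMap_mem G hx))),
        th_diff (hQS (autMap_mem α hx)) (hQS (autMap_mem G hx)), hGe x hx, hgQ x hx, inv_mul_cancel]
    have hm := (isIso_autMap hQS (inv_mem hαA)).isMap
    have h1 := hs.fix hm (hZQ hz) hz
    rw [hm.map_mul (inv_mem (autMap_mem α hx)) (autMap_mem G hx), hm.map_inv (autMap_mem α hx),
      S5114.inv_autMap_apply α hx] at h1
    rw [autMap_mul _ _ hx, h1]
    exact hz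
  set d := y⁻¹ * g y with hd
  have hdQ : d ∈ Q := by
    refine mem_of_th_mem hs.ker hZQ hQS (mul_mem (inv_mem hyS) (hg.mem_S hyW)) ?_
    rw [th_diff hyS (hg.mem_S hyW), hge y hyW]
    exact hg'C _ hyC
  have hdn : d ∈ Subgroup.normalizer (Q : Set Ω) := Subgroup.le_normalizer hdQ
  refine ⟨conjAut hdn, mem_autInducedBy.2 ⟨d, hQT hdQ, hdn, rfl⟩, ?_⟩
  have hcomm : α * conjAut hyn * α⁻¹ = G * conjAut hyn * G⁻¹ := by
    have h := hs.kerAut_comm hQS hZQ hk' hk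
    calc α * conjAut hyn * α⁻¹ = α * (conjAut hyn * (α⁻¹ * G)) * G⁻¹ := by group
      _ = α * (α⁻¹ * G * conjAut hyn) * G⁻¹ := by rw [h]
      _ = _ := by group
  rw [hcomm]
  refine aut_ext fun x hx => ?_
  obtain ⟨z, hz, rfl⟩ := (isIso_autMap hQS hG).exists_preimage hx
  have hyz : y * z * y⁻¹ ∈ Q := (Subgroup.mem_normalizer_iff.1 hyn z).1 hz
  rw [autMap_mul _ _ (autMap_mem _ hz), ← autMap_mul G⁻¹ G hz, inv_mul_cancel,
    FusionSys.autMap_one hz, autMap_mul _ _ hz, autMap_mul _ _ (autMap_mem _ hz),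
    autMap_conjAut hyn hz, autMap_conjAut hdn (autMap_mem _ hz), conjMap_apply, conjMap_apply,
    autMap_conjAut hyn ((Subgroup.mem_normalizer_iff.1 hdn _).1 (autMap_mem _ hz)), conjMap_apply, hGe _ hyz, hGe _ hz, hg.map_conj hyW (hW hz), hd]
  group

theorem decomp_indAut {w : MulAut Q} (hw : w ∈ hs.indSys.autGroup Q ⊓ autInducedBy S Q) :
    ∃ u ∈ hs.uAut Q, ∃ k ∈ kerAut F Z Q, w = u * k := by
  obtain ⟨hZQ, hQT, hQc⟩ := hQ
  have hQS := hQn.1
  haveI := hs.finite_S'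
  haveI := hs.finite_T
  haveI := finite_of_le hQS
  set Q' := imageAlong θ Q with hQ'
  have hQ'T := hs.img_le_T hQT
  haveI := finite_of_le (S := T) hQ'T
  haveI := finite_mulAut_of_le (S := T) hQ'T
  obtain ⟨s, hsS, hsn, rfl⟩ := mem_autInducedBy.1 hw.2
  obtain ⟨-, -, f', hf', hfe⟩ := (hs.mem_indAut hQT).1 hw.1
  have hval : ∀ x ∈ Q, conjMap (th θ s) (th θ x) = f' (th θ x) := fun x hx => by
    rw [← hfe x hx, autMap_conjAut hsn hx, conjMap_apply, conjMap_apply, th_conj hsS (hQS hx)]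
  have hsn' : th θ s ∈ Subgroup.normalizer (Q' : Set Ω') := mem_normalizer_of_maps fun r hr => by
    obtain ⟨q, hqS, hq, rfl⟩ := mem_img.1 hr
    rw [← th_conj hsS hqS]
    exact th_mem_img hQS ((Subgroup.mem_normalizer_iff.1 hsn q).1 hq)
  have hsD : conjAut hsn' ∈ D.autGroup Q' := by
    refine mem_autGroup_of_isMap (hf'.congr fun r hr => ?_)
    obtain ⟨q, -, hq, rfl⟩ := mem_img.1 hr
    rw [autMap_conjAut hsn' hr, hval q hq]
  have hTp : IsPGroup p T := hs.isPGroup_S'.to_le hs.T_le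
  have hfn : D.IsFullyNormalized Q' := isFullyNormalized_sub hs.isPGroup_S' hs.E_saturated
    hs.hD.1.2.2.1 hs.hD.1.2.2.2.1 hQ'T (hs.img_isFullyNormalized hQn hZQ)
  have hsyl := isSylowIn_of_fullyAutomized hTp
    (isFullyAutomized_of_isFullyNormalized hTp hs.hD.1.1 hfn)
  have heq := hsyl.eq_of_le ((isPGroup_autInducedBy hs.isPGroup_S' Q').to_le inf_le_right) inf_le_left
    (le_inf (autInducedBy_le_autGroup D hQ'T) (autInducedBy_mono hs.T_le))
  obtain ⟨t', ht'T, ht'n, ht'e⟩ := mem_autInducedBy.1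
    (heq.ge ⟨hsD, mem_autInducedBy.2 ⟨_, hs.th_mem hsS, hsn', rfl⟩⟩)
  obtain ⟨t, htS, rfl⟩ := hs.exists_th (hs.T_le ht'T)
  have htn : t ∈ Subgroup.normalizer (Q : Set Ω) := mem_normalizer_of_maps fun q hq => by
    refine mem_of_th_mem hs.ker hZQ hQS (mul_mem (mul_mem htS (hQS hq)) (inv_mem htS)) ?_
    rw [th_conj htS (hQS hq)]
    exact (Subgroup.mem_normalizer_iff.1 ht'n _).1 (th_mem_img hQS hq)
  have hts : t⁻¹ * s ∈ normalizerIn S Q :=
    ⟨S.mul_mem (S.inv_mem htS) hsS, mul_mem (Subgroup.inv_mem _ htn) hsn⟩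
  refine ⟨conjAut htn, mem_autInducedBy.2 ⟨t, mem_pre.2 ⟨htS, ht'T⟩, htn, rfl⟩, conjAut hts.2,
    hs.conjAut_mem_kerAut hQS hts fun q hq => ?_, ?_⟩
  · have hqS := hQS hq
    have hc := S.mul_mem (S.mul_mem hts.1 hqS) (S.inv_mem hts.1)
    rw [← hs.th_eq_one (mul_mem (inv_mem hqS) hc), th_diff hqS hc, th_conj hts.1 hqS,
      th_diff htS hsS, inv_mul_eq_one]
    have h := congrArg (fun a => autMap a (th θ q)) ht'e
    rw [autMap_conjAut hsn' (th_mem_img hQS hq), autMap_conjAut ht'n (th_mem_img hQS hq),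
      conjMap_apply, conjMap_apply] at h
    calc th θ q = (th θ t)⁻¹ * (th θ t * th θ q * (th θ t)⁻¹) * th θ t := by group
      _ = _ := by rw [← h]; group
  · refine aut_ext fun x hx => ?_
    rw [autMap_mul _ _ hx, autMap_conjAut hts.2 hx, autMap_conjAut hsn hx, conjMap_apply, conjMap_apply,
      autMap_conjAut htn ((Subgroup.mem_normalizer_iff.1 hts.2 x).1 hx), conjMap_apply]
    group

theorem focal_le {w g : MulAut Q} (hw : w ∈ hs.indSys.autGroup Q ⊓ autInducedBy S Q)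
    (hg : g ∈ hs.indSys.autGroup Q) (hgw : g * w * g⁻¹ ∈ autInducedBy S Q) :
    w⁻¹ * (g * w * g⁻¹) ∈ hs.uAut Q := by
  obtain ⟨u, hu, k, hk, rfl⟩ := hs.decomp_indAut hQ hQn hw
  obtain ⟨m, hm, hgk⟩ := hs.comm_kerAut hQ hQn hg hk
  have hkS := hs.kerAut_le_autInducedBy hQn hQ.1 hk
  have h1 : g * u * g⁻¹ = g * (u * k) * g⁻¹ * m⁻¹ * k⁻¹ := by
    calc g * u * g⁻¹ = g * (u * k) * g⁻¹ * (g * k * g⁻¹)⁻¹ := by group
      _ = _ := by rw [hgk]; group
  have h2 : g * u * g⁻¹ ∈ hs.uAut Q :=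
    hs.uAut_closed hQ.2.1 hQn (hs.indAut_le hQ.2.1 hg) hu (by
      rw [h1]
      exact mul_mem (mul_mem hgw (inv_mem (hs.uAut_le_S hm))) (inv_mem hkS))
  have h3 : (u * k)⁻¹ * (g * (u * k) * g⁻¹) = k⁻¹ * (u⁻¹ * (g * u * g⁻¹)) * k⁻¹⁻¹ * m := by
    calc (u * k)⁻¹ * (g * (u * k) * g⁻¹) = k⁻¹ * u⁻¹ * (g * u * g⁻¹) * (g * k * g⁻¹) := by group
      _ = _ := by rw [hgk]; group
  rw [h3]
  exact mul_mem (hs.conj_uAut (inv_mem hkS) (mul_mem (inv_mem hu) h2)) hm

theorem conj_bAut {g b : MulAut Q} (hg : g ∈ hs.indSys.autGroup Q) (hb : b ∈ hs.bAut Q) :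
    g * b * g⁻¹ ∈ hs.bAut Q := by
  haveI := hs.finite_T0
  haveI := finite_autGroup hs.indSys hQ.2.1
  haveI := finite_mulAut_of_le hQn.1
  set A := hs.indSys.autGroup Q with hA
  have hsy := hs.isSylowIn_indAut hQ.2.1 hQn
  suffices htop : (Subgroup.normalizer (hs.bAut Q : Set (MulAut Q))).subgroupOf A = ⊤ from
    (Subgroup.mem_normalizer_iff.1 (htop.ge (Subgroup.mem_top (⟨g, hg⟩ : A))) b).1 hb
  refine top_le_iff.1 ((Fusion.sylow_sup_pResidual hsy.toSylow).ge.trans (sup_le (fun w hw => ?_)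
    fun w hw => Subgroup.le_normalizer (Subgroup.mem_sup_left ⟨w, hw, rfl⟩)))
  rw [hsy.coe_toSylow] at hw
  refine Subgroup.mem_subgroupOf.2 (H48.mem_normalizer_of_cj_eq (H48.cj_eq_self_of_le
    (H48.cj_le.2 fun x hx => ?_)))
  have hle : hs.bAut Q ≤ (hs.bAut Q).comap (MulAut.conj (w : MulAut Q)).toMonoidHom := by
    refine sup_le ?_ fun u hu => Subgroup.mem_sup_right (hs.conj_uAut hw.2 hu)
    rintro _ ⟨o, ho, rfl⟩
    exact Subgroup.mem_sup_left ⟨w * o * w⁻¹, Subgroup.Normal.conj_mem inferInstance o ho w, rfl⟩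
  exact hle hx

theorem isSylowIn_bAut : IsSylowIn p (hs.uAut Q) (hs.bAut Q) := by
  have hQS := hQn.1
  haveI := hs.finite_T0
  haveI := finite_autGroup hs.indSys hQ.2.1
  haveI := finite_mulAut_of_le hQS
  set A := hs.indSys.autGroup Q with hA
  have hsy := hs.isSylowIn_indAut hQ.2.1 hQn
  set P0 : Sylow p A := hsy.toSylow with hP0
  set U := (hs.uAut Q).subgroupOf A with hU
  set B := pResidual p A ⊔ U with hB
  have hUP : U ≤ (P0 : Subgroup A) := fun x hx => by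
    rw [hP0, hsy.coe_toSylow]
    exact ⟨x.2, hs.uAut_le_S hx⟩
  have hfoc : pResidual p A ⊓ (P0 : Subgroup A) ≤ U := by
    refine ((inf_le_inf_right _ le_sup_left).trans
      (Fusion.pResidual_sup_commutator_inf P0).le).trans ?_
    rw [Subgroup.focalSubgroup_def, Subgroup.closure_le]
    rintro _ ⟨hmem, x, hx, g, rfl⟩
    have hg2 := mul_mem (inv_mem hx) hmem
    rw [hP0, hsy.coe_toSylow, Subgroup.mem_subgroupOf] at hx hg2
    have he : ((g : MulAut Q) * (x : MulAut Q)⁻¹ * (g : MulAut Q)⁻¹) = ((x⁻¹ * ⁅x, g⁆ : A) : MulAut Q) := by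
      simp only [commutatorElement_def, Subgroup.coe_mul, Subgroup.coe_inv]
      group
    have h := hs.focal_le hQ hQn (inv_mem hx) g.2 (he ▸ (Subgroup.mem_inf.1 hg2).2)
    show ((⁅x, g⁆ : A) : MulAut Q) ∈ hs.uAut Q
    rw [show ((⁅x, g⁆ : A) : MulAut Q) = ((x : MulAut Q)⁻¹)⁻¹ * ((g : MulAut Q) * (x : MulAut Q)⁻¹ *
      (g : MulAut Q)⁻¹) by rw [he, Subgroup.coe_mul, Subgroup.coe_inv]; group]
    exact h
  haveI : B.Normal := by
    rw [← Subgroup.normalizer_eq_top_iff, ← top_le_iff]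
    refine (Fusion.sylow_sup_pResidual P0).ge.trans (sup_le (fun g hg => ?_)
      (le_sup_left.trans Subgroup.le_normalizer))
    refine H48.mem_normalizer_of_cj_eq (H48.cj_eq_self_of_le (H48.cj_le.2 fun b hb => ?_))
    have hle : B ≤ B.comap (MulAut.conj g).toMonoidHom := sup_le
      (fun x hx => Subgroup.mem_sup_left (Subgroup.Normal.conj_mem inferInstance x hx g))
      fun x hx => Subgroup.mem_sup_right (by
        rw [hP0, hsy.coe_toSylow, Subgroup.mem_subgroupOf] at hg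
        exact hs.conj_uAut hg.2 hx)
    exact hle hb
  have hinf : (P0 : Subgroup A) ⊓ B = U := by
    refine le_antisymm (fun x hx => ?_) (le_inf hUP le_sup_right)
    obtain ⟨o, ho, u, hu, rfl⟩ := Subgroup.mem_sup_of_normal_left.1 (Subgroup.mem_inf.1 hx).2
    refine mul_mem (hfoc ⟨ho, ?_⟩) hu
    have := mul_mem (Subgroup.mem_inf.1 hx).1 (inv_mem (hUP hu))
    rwa [mul_inv_cancel_right] at this
  have h := H48.isSylowIn_inf_normal P0 B
  rw [hinf] at h
  refine ⟨hs.uAut_le_bAut, (isPGroup_autInducedBy hs.hS Q).to_le hs.uAut_le_S, fun hd => h.ndvd ?_⟩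
  rw [hB, hU, Subgroup.subgroupOf, Subgroup.relIndex_comap, Subgroup.map_sup,
    Subgroup.map_comap_eq_self ((A.range_subtype).ge.trans' (hs.uAut_le_indAut hQ.2.1))]
  exact hd

end Setup

end Cfsg.Agent.H89.Lift
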