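import Cfsg.Agent.H89.Lift.Sub
import Cfsg.Agent.H48.SylowCore
import Cfsg.Agent.Fusion.PResidual

/-!
The Frattini decomposition for the lifted subsystem.
-/

set_option autoImplicit false
set_option linter.style.haveILetI false
set_option linter.unusedSectionVars false

namespace Cfsg.Agent.H89.Lift

open Cfsg Cfsg.FusionSystem Cfsg.Agent.FusionSys Cfsg.Agent.H91.CentFocal
open Cfsg.Agent.H89 (mem_preimageAlong preimageAlong_le ker_le_preimageAlong mem_imageAlong KerEq)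
open Cfsg.Agent.H48 (IsSylowIn)
open Cfsg.FusionSystem (centralizerIn normalizerIn)

universe u u'

variable {Ω : Type u} [Group Ω] {S : Subgroup Ω} {Ω' : Type u'} [Group Ω'] {S' T : Subgroup Ω'}
variable {p : ℕ} {F : FusionSystem S} {θ : S →* Ω'} {Z : Subgroup Ω} {E : FusionSystem S'}
  {D : FusionSystem T}

/-- `f` is a map of the lifted system followed by an automorphism of `T₀`. -/
def FR (p : ℕ) (F : FusionSystem S) (θ : S →* Ω') (Z : Subgroup Ω) (D : FusionSystem T)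
    (P : Subgroup Ω) (f : Ω → Ω) : Prop :=
  ∃ a ∈ F.autGroup (preimageAlong θ T), ∃ d, InD p F θ Z D P d ∧ ∀ x ∈ P, f x = autMap a (d x)

namespace Setup

variable (hs : Setup p F θ Z E D)
include hs

theorem FR_congr {P : Subgroup Ω} {f g : Ω → Ω} (h : FR p F θ Z D P f)
    (he : ∀ x ∈ P, g x = f x) : FR p F θ Z D P g := by
  obtain ⟨a, ha, d, hd, hfe⟩ := h
  exact ⟨a, ha, d, hd, fun x hx => (he x hx).trans (hfe x hx)⟩

theorem FR_mono {P R : Subgroup Ω} {f : Ω → Ω} (h : FR p F θ Z D R f) (hle : P ≤ R) :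
    FR p F θ Z D P f := by
  obtain ⟨a, ha, d, hd, hfe⟩ := h
  exact ⟨a, ha, d, hd.mono hle, fun x hx => hfe x (hle hx)⟩

variable [Finite S] [Fact p.Prime]

theorem FR_comp {P Q : Subgroup Ω} {f g : Ω → Ω} (hf : FR p F θ Z D P f)
    (hg : FR p F θ Z D Q g) (hm : ∀ x ∈ P, f x ∈ Q) : FR p F θ Z D P (g ∘ f) := by
  obtain ⟨a, ha, d, hd, hfe⟩ := hf
  obtain ⟨b, hb, e, he, hge⟩ := hg
  have hQT := (hs.ind_of_inD he).le
  have hb' := hs.isMap_aut (inv_mem ha)
  have hdT : ∀ x ∈ P, d x ∈ preimageAlong θ T := fun x hx => (hs.ind_of_inD hd).mem hx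
  refine ⟨b * a, mul_mem hb ha, tw a⁻¹ e ∘ d, hd.comp (hs.inD_tw (inv_mem ha) he) fun x hx => ?_,
    fun x hx => ?_⟩
  · refine (hb'.mono hQT).mem_imgSub.2 ⟨f x, hm x hx, ?_⟩
    rw [hfe x hx, S5114.inv_autMap_apply a (hdT x hx)]
  · have h1 : tw a⁻¹ e (d x) = autMap a⁻¹ (e (autMap a (d x))) := by
      show autMap a⁻¹ (e (autMap a⁻¹⁻¹ (d x))) = _
      rw [inv_inv]
    have h2 : e (autMap a (d x)) ∈ preimageAlong θ T := (hs.ind_of_inD he).mem (hfe x hx ▸ hm x hx)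
    rw [Function.comp_apply, Function.comp_apply, h1, hge _ (hm x hx), hfe x hx,
      autMap_mul _ _ (autMap_mem _ h2), autMap_inv_apply a h2]

theorem FR_inv {P Q : Subgroup Ω} {f g : Ω → Ω} (hf : IsIso F P Q f)
    (hgf : ∀ x ∈ P, g (f x) = x) (h : FR p F θ Z D P f) : FR p F θ Z D Q g := by
  obtain ⟨a, ha, d, hd, hfe⟩ := h
  have hdI := (hs.ind_of_inD hd).isMap.isIso
  obtain ⟨d', hd', hd'1, -⟩ := hdI.exists_symm
  have hd'D := hs.inD_inv hdI hd'1 hd
  have hb := hs.isMap_aut ha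
  have hdle : imgSub d P ≤ preimageAlong θ T := (hs.ind_of_inD hd'D).le
  have hQ : Q = imgSub (autMap a) (imgSub d P) := by
    rw [hf.eq_imgSub, ← (hs.ind_of_inD hd).isMap.imgSub_comp]
    exact imgSub_congr hfe
  refine ⟨a⁻¹, inv_mem ha, tw a d', hQ ▸ hs.inD_tw ha hd'D, fun y hy => ?_⟩
  obtain ⟨x, hx, rfl⟩ := hf.exists_preimage hy
  have hdx : d x ∈ preimageAlong θ T := (hs.ind_of_inD hd).mem hx
  rw [hgf x hx, hfe x hx, tw_apply a d' hdx, hd'1 x hx, S5114.inv_autMap_apply a ((hs.ind_of_inD hd).le hx)]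

theorem FR_conj {P : Subgroup Ω} (hP : P ≤ preimageAlong θ T) {s : Ω} (hs' : s ∈ S) :
    FR p F θ Z D P (conjMap s) := by
  haveI := hs.finite_T0
  obtain ⟨a, ha, hae⟩ := (isIso_of_mapsTo (isMap_conj F hs.T0_le hs')
    fun t ht => hs.T0_conj hs' ht).exists_aut
  exact ⟨a, ha, id, fun E' _ => isMap_id E' hP, fun x hx => (hae x (hP hx)).symm⟩

theorem FR_of_inD {P : Subgroup Ω} {d : Ω → Ω} (hd : InD p F θ Z D P d) :
    FR p F θ Z D P d :=
  ⟨1, one_mem _, d, hd, fun _ hx => (FusionSys.autMap_one ((hs.ind_of_inD hd).mem hx)).symm⟩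

theorem mem_indAut {Q : Subgroup Ω} (hQ : Q ≤ preimageAlong θ T) {α : MulAut Q} :
    α ∈ hs.indSys.autGroup Q ↔ Ind F θ D Q (autMap α) :=
  (mem_autGroup_iff hQ).trans hs.isMap_indSys

theorem indAut_le {Q : Subgroup Ω} (hQ : Q ≤ preimageAlong θ T) :
    hs.indSys.autGroup Q ≤ F.autGroup Q :=
  fun _ h => mem_autGroup_of_isMap ((hs.mem_indAut hQ).1 h).1

theorem conj_mem_indAut {Q : Subgroup Ω} (hQ : Q ≤ preimageAlong θ T) {γ α : MulAut Q}
    (hγ : γ ∈ F.autGroup Q) (hα : α ∈ hs.indSys.autGroup Q) :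
    γ * α * γ⁻¹ ∈ hs.indSys.autGroup Q := by
  have hQS := hQ.trans hs.T0_le
  have hi := (hs.mem_indAut hQ).1 hα
  obtain ⟨-, -, f', hf', hfe⟩ := hi
  obtain ⟨g, hg, hge⟩ := hs.exists_induced_aut hQS hγ
  haveI := hs.finite_S'
  haveI := hs.finite_T
  haveI := finite_of_le (S := T) (hs.img_le_T hQ)
  have hf'i : IsIso D (imageAlong θ Q) (imageAlong θ Q) f' := isIso_of_mapsTo hf' fun y hy => by
    obtain ⟨x, -, hx, rfl⟩ := mem_img.1 hy
    rw [← hfe x hx]
    exact th_mem_img hQS (autMap_mem α hx)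
  obtain ⟨β, hβ, hβe⟩ := hf'i.exists_aut
  have h := WeakResidual.conj_mem_autGroup hs.hD.1.2.2 (hs.img_le_T hQ) hg hβ
  refine (hs.mem_indAut hQ).2 ⟨(mem_autGroup_iff hQS).1
    (mul_mem (mul_mem hγ (hs.indAut_le hQ hα)) (inv_mem hγ)), hQ, autMap (g * β * g⁻¹),
    (mem_autGroup_iff (hs.img_le_T hQ)).1 h, fun x hx => ?_⟩
  obtain ⟨y, hy, rfl⟩ := (isIso_autMap hQS hγ).exists_preimage hx
  have hty : th θ y ∈ imageAlong θ Q := th_mem_img hQS hy
  rw [autMap_mul _ _ (autMap_mem _ hy), ← autMap_mul γ⁻¹ γ hy, inv_mul_cancel,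
    FusionSys.autMap_one hy, autMap_mul _ _ hy, ← hge y hy,
    autMap_mul _ _ (autMap_mem _ hty), ← autMap_mul g⁻¹ g hty, inv_mul_cancel,
    FusionSys.autMap_one hty, autMap_mul _ _ hty, hβe _ hty, ← hfe y hy, hge _ (autMap_mem α hy)]

theorem indAut_normal {Q : Subgroup Ω} (hQ : Q ≤ preimageAlong θ T) :
    ((hs.indSys.autGroup Q).subgroupOf (F.autGroup Q)).Normal :=
  ⟨fun _ hn g => hs.conj_mem_indAut hQ g.2 hn⟩

/-- `Aut_S(Q)` cuts a Sylow subgroup out of the automorphisms inducing maps of `D`. -/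
theorem isSylowIn_indAut {Q : Subgroup Ω} (hQ : Q ≤ preimageAlong θ T)
    (hQn : F.IsFullyNormalized Q) :
    IsSylowIn p (hs.indSys.autGroup Q ⊓ autInducedBy S Q) (hs.indSys.autGroup Q) := by
  haveI := finite_autGroup F hQn.1
  obtain ⟨-, Sy, hSy⟩ := isFullyAutomized_of_isFullyNormalized hs.hS hs.hF hQn
  haveI := hs.indAut_normal hQ
  have h := H48.isSylowIn_inf_normal Sy ((hs.indSys.autGroup Q).subgroupOf (F.autGroup Q))
  refine ⟨inf_le_left, (isPGroup_autInducedBy hs.hS Q).to_le inf_le_right, fun hd => h.ndvd ?_⟩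
  have h1 : (Sy : Subgroup (F.autGroup Q)) ⊓ (hs.indSys.autGroup Q).subgroupOf (F.autGroup Q) =
      (hs.indSys.autGroup Q ⊓ autInducedBy S Q).comap (F.autGroup Q).subtype := by
    rw [hSy, inf_comm, Subgroup.comap_inf]
    rfl
  rw [h1, Subgroup.relIndex_comap, Subgroup.map_subgroupOf_eq_of_le (hs.indAut_le hQ)]
  exact hd

/-! ### Automorphisms trivial modulo `Z` -/

theorem kerAut_conj {Q : Subgroup Ω} (hQ : Q ≤ S) (hZQ : Z ≤ Q) {γ k : MulAut Q}
    (hγ : γ ∈ F.autGroup Q) (hk : k ∈ kerAut F Z Q) : γ * k * γ⁻¹ ∈ kerAut F Z Q := by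
  refine ⟨mul_mem (mul_mem hγ hk.1) (inv_mem hγ), fun x hx => ?_⟩
  obtain ⟨y, hy, rfl⟩ := (isIso_autMap hQ hγ).exists_preimage hx
  have hm := (isIso_autMap hQ hγ).isMap
  have hz := hk.2 y hy
  rw [autMap_mul _ _ (autMap_mem _ hy), ← autMap_mul γ⁻¹ γ hy, inv_mul_cancel,
    FusionSys.autMap_one hy, autMap_mul _ _ hy, ← hm.map_inv hy,
    ← hm.map_mul (inv_mem hy) (autMap_mem k hy), hs.fix hm (hZQ hz) hz]
  exact hz

theorem isPGroup_kerAut {Q : Subgroup Ω} (hQ : Q ≤ S) (hZQ : Z ≤ Q) :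
    IsPGroup p (kerAut F Z Q) := by
  haveI : Finite Z := finite_of_le hs.Z_le
  obtain ⟨n, hn⟩ := IsPGroup.iff_card.1 (hs.hS.to_le hs.Z_le)
  rintro ⟨k, hk⟩
  refine ⟨n, Subtype.ext (aut_ext fun x hx => ?_)⟩
  have hz := hk.2 x hx
  have key : ∀ j : ℕ, autMap (k ^ j) x = x * (x⁻¹ * autMap k x) ^ j := by
    intro j
    induction j with
    | zero => rw [pow_zero, pow_zero, FusionSys.autMap_one hx, mul_one]
    | succ j ih =>
      have hm := (isIso_autMap hQ hk.1).isMap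
      rw [pow_succ', autMap_mul _ _ hx, ih, hm.map_mul hx (hZQ (Z.pow_mem hz j)),
        hs.fix hm (hZQ (Z.pow_mem hz j)) (Z.pow_mem hz j), pow_succ', ← mul_assoc x, mul_inv_cancel_left]
  show autMap (k ^ p ^ n) x = autMap 1 x
  rw [key, ← hn, show (x⁻¹ * autMap k x) ^ Nat.card Z = 1 from
    congrArg Subtype.val (pow_card_eq_one' (x := (⟨_, hz⟩ : Z))), mul_one, FusionSys.autMap_one hx]

theorem kerAut_comm {Q : Subgroup Ω} (hQ : Q ≤ S) (hZQ : Z ≤ Q) {a b : MulAut Q}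
    (ha : a ∈ kerAut F Z Q) (hb : b ∈ kerAut F Z Q) : a * b = b * a := by
  refine aut_ext fun x hx => ?_
  have key : ∀ {c : MulAut Q}, c ∈ kerAut F Z Q → ∀ {z : Ω}, z ∈ Z →
      autMap c (x * z) = autMap c x * z := fun {c} hc {z} hz => by
    rw [(isIso_autMap hQ hc.1).isMap.map_mul hx (hZQ hz),
      hs.fix (isIso_autMap hQ hc.1).isMap (hZQ hz) hz]
  obtain ⟨za, hza, hae⟩ : ∃ z ∈ Z, autMap a x = x * z :=
    ⟨_, ha.2 x hx, (mul_inv_cancel_left x _).symm⟩
  obtain ⟨zb, hzb, hbe⟩ : ∃ z ∈ Z, autMap b x = x * z :=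
    ⟨_, hb.2 x hx, (mul_inv_cancel_left x _).symm⟩
  rw [autMap_mul _ _ hx, autMap_mul _ _ hx, hbe, key ha hzb, hae, key hb hza, hbe, mul_assoc, mul_assoc,
    hs.Z_comm hzb (hs.Z_le hza)]

theorem kerAut_le_autInducedBy {Q : Subgroup Ω} (hQn : F.IsFullyNormalized Q) (hZQ : Z ≤ Q) :
    kerAut F Z Q ≤ autInducedBy S Q := by
  haveI := finite_autGroup F hQn.1
  obtain ⟨-, Sy, hSy⟩ := isFullyAutomized_of_isFullyNormalized hs.hS hs.hF hQn
  haveI : ((kerAut F Z Q).subgroupOf (F.autGroup Q)).Normal :=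
    ⟨fun _ hn g => hs.kerAut_conj hQn.1 hZQ g.2 hn⟩
  have h := Sy.3 ((IsPGroup.of_equiv (hs.isPGroup_kerAut hQn.1 hZQ)
    (Subgroup.subgroupOfEquivOfLe (show kerAut F Z Q ≤ F.autGroup Q from fun _ h => h.1)).symm).to_sup_of_normal_left Sy.2) le_sup_right
  intro k hk
  have hk' : (⟨k, hk.1⟩ : F.autGroup Q) ∈
      (kerAut F Z Q).subgroupOf (F.autGroup Q) ⊔ (Sy : Subgroup (F.autGroup Q)) :=
    Subgroup.mem_sup_left hk
  rw [h, hSy] at hk'
  exact hk'

theorem kerAut_le_indAut {Q : Subgroup Ω} (hQ : Q ≤ preimageAlong θ T) :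
    kerAut F Z Q ≤ hs.indSys.autGroup Q := fun k hk => by
  refine (hs.mem_indAut hQ).2 ⟨(mem_autGroup_iff (hQ.trans hs.T0_le)).1 hk.1, hQ, id,
    isMap_id D (hs.img_le_T hQ), fun x hx => ?_⟩
  have hxS := hs.T0_le (hQ hx)
  have hkS := hs.T0_le (hQ (autMap_mem k hx))
  have h := (hs.th_eq_one (mul_mem (inv_mem hxS) hkS)).2 (hk.2 x hx)
  rw [th_diff hxS hkS, inv_mul_eq_one] at h
  exact h.symm

theorem conjAut_mem_kerAut {Q : Subgroup Ω} (hQ : Q ≤ S) {x : Ω} (hx : x ∈ normalizerIn S Q)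
    (h : ∀ q ∈ Q, q⁻¹ * (x * q * x⁻¹) ∈ Z) : conjAut hx.2 ∈ kerAut F Z Q :=
  ⟨conjAut_mem_autGroup F hQ hx, fun q hq => by
    rw [autMap_conjAut hx.2 hq, conjMap_apply]; exact h q hq⟩

/-- A fully normalized subgroup whose image is not centric in `D` is centralized modulo `Z` by further
elements of `T₀`. -/
theorem exists_extra {Q : Subgroup Ω} (hQ : Q ≤ preimageAlong θ T) (hQn : F.IsFullyNormalized Q)
    (hZQ : Z ≤ Q) (hnc : ¬ D.IsCentric (imageAlong θ Q)) :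
    ∃ x ∈ preimageAlong θ T, x ∉ Q ∧ x ∈ normalizerIn S Q ∧ ∀ q ∈ Q, q⁻¹ * (x * q * x⁻¹) ∈ Z := by
  haveI := hs.finite_S'
  set Q' := imageAlong θ Q with hQ'
  have hQT := hs.img_le_T hQ
  obtain ⟨R', hR', c, hc, hcR⟩ : ∃ R', D.IsConj Q' R' ∧ ∃ c ∈ centralizerIn T R', c ∉ R' := by
    by_contra hno
    push Not at hno
    exact hnc ⟨hQT, fun R' hR' c hc => hno R' hR' c hc⟩
  obtain ⟨f', hf'⟩ := isConj_iff.1 (isConj_symm hR')
  have hfE := isIso_of_sub hs.hD.1.2.2.1 hf'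
  have hfn := hs.img_isFullyNormalized hQn hZQ
  obtain ⟨g', hg', hg'e⟩ := receptive_extend
    (receptive_of_isFullyNormalized hs.isPGroup_S' hs.E_saturated hfn) hfE (N := centralizerIn T R')
    fun y hy => hfE.isMap.inExt_of_centralizes (FusionSys.mem_centralizerIn.2
      ⟨hs.T_le (FusionSys.mem_centralizerIn.1 hy).1, (FusionSys.mem_centralizerIn.1 hy).2⟩)
  have hg'R : IsIso E R' Q' g' := (IsIso.congr hfE hg'e)
  have hcN : c ∈ centralizerIn T R' ⊔ R' := Subgroup.mem_sup_left hc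
  have hgc : g' c ∈ T := (stronglyClosed_iff.1 hs.hD.1.2.2.2.1).2 _ g'
    (sup_le centralizerIn_le hf'.source_le) hg' c hcN
  have hgcc := hg'R.mem_centralizerIn_of_extends hg' le_sup_right (fun _ _ => rfl) hcN
    (FusionSys.mem_centralizerIn.2 ⟨hs.T_le (FusionSys.mem_centralizerIn.1 hc).1,
      (FusionSys.mem_centralizerIn.1 hc).2⟩)
  have hgcQ : g' c ∉ Q' := fun h => by
    obtain ⟨r, hr, hre⟩ := hg'R.exists_preimage h
    exact hcR (hg'.injOn (Subgroup.mem_sup_right hr) hcN hre ▸ hr)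
  obtain ⟨x, hxS, hxe⟩ := hs.exists_th (hs.T_le hgc)
  have hdiff : ∀ q ∈ Q, q⁻¹ * (x * q * x⁻¹) ∈ Z := fun q hq => by
    have hqS := hQn.1 hq
    rw [← hs.th_eq_one (mul_mem (inv_mem hqS) (mul_mem (mul_mem hxS hqS) (inv_mem hxS))),
      th_diff hqS (mul_mem (mul_mem hxS hqS) (inv_mem hxS)), th_conj hxS hqS, hxe,
      ← (FusionSys.mem_centralizerIn.1 hgcc).2 _ (th_mem_img hQn.1 hq)]
    group
  haveI := finite_of_le hQn.1
  refine ⟨x, mem_pre.2 ⟨hxS, hxe ▸ hgc⟩, fun h => hgcQ (hxe ▸ th_mem_img hQn.1 h),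
    ⟨hxS, mem_normalizer_of_maps fun q hq => ?_⟩, hdiff⟩
  have := mul_mem hq (hZQ (hdiff q hq))
  rwa [mul_inv_cancel_left] at this

/-- The Frattini decomposition. -/
theorem frattini {P : Subgroup Ω} {f : Ω → Ω} (hP : P ≤ preimageAlong θ T) (hf : IsMap F P f) :
    FR p F θ Z D P f := by
  induction hn : Nat.card (preimageAlong θ T) - Nat.card P using Nat.strong_induction_on
    generalizing P f with
  | _ n ih =>
  haveI := hs.finite_T0
  have hT0p : IsPGroup p (preimageAlong θ T) := hs.hS.to_le hs.T0_le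
  rcases hP.eq_or_lt with hPe | hPlt
  · subst hPe
    obtain ⟨a, ha, hae⟩ := (isIso_of_mapsTo hf fun x hx =>
      (stronglyClosed_iff.1 hs.T0_closed).2 _ f le_rfl hf x hx).exists_aut
    exact ⟨a, ha, id, fun E' _ => isMap_id E' le_rfl, fun x hx => (hae x hx).symm⟩
  have hbig : ∀ {R : Subgroup Ω} {g : Ω → Ω}, Nat.card P < Nat.card R → R ≤ preimageAlong θ T →
      IsMap F R g → FR p F θ Z D R g := fun {R g} hlt hR hg => by
    have := Subgroup.card_le_of_le hR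
    exact ih _ (by omega) hR hg rfl
  by_cases hZP : Z ≤ P
  swap
  · obtain ⟨g, hg, hge, -⟩ := (FusionSys.isCentral_iff.1 hs.hZ).2 P f hf
    have hR : P ⊔ Z ≤ preimageAlong θ T := sup_le hP hs.Z_le_T0
    haveI := finite_of_le hR
    exact hs.FR_congr (hs.FR_mono (hbig (card_lt_card_of_lt (left_lt_sup.2 hZP)) hR hg) le_sup_left)
      fun x hx => (hge x hx).symm
  obtain ⟨Q, hQc, hQn⟩ := exists_isFullyNormalized F (hP.trans hs.T0_le)
  obtain ⟨u, hu⟩ := isConj_iff.1 hQc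
  have hQT : Q ≤ preimageAlong θ T := target_le_of_closed hs.T0_closed hP hu
  have hQlt : Q < preimageAlong θ T := lt_of_le_of_ne hQT fun h => hPlt.ne
    (Subgroup.eq_of_le_of_card_ge hP (by rw [hu.card_eq, h]))
  have hgood : ∀ {R : Subgroup Ω}, F.IsConj R Q → R ≤ preimageAlong θ T →
      ∃ g, IsIso F R Q g ∧ FR p F θ Z D R g := fun {R} hR hRT => by
    obtain ⟨g, hg, hgi, -⟩ := exists_map_to_fullyNormalized hs.hS hs.hF hQn hR
    have hRlt : R < preimageAlong θ T := lt_of_le_of_ne hRT fun h => hQlt.ne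
      (Subgroup.eq_of_le_of_card_ge hQT (by rw [← hgi.card_eq, h]))
    have hlt : R < normalizerIn (preimageAlong θ T) R := lt_inf_normalizer_of_lt hT0p hRlt
    haveI := finite_of_le (S := preimageAlong θ T) (P := normalizerIn (preimageAlong θ T) R)
      normalizerIn_le
    refine ⟨g, hgi, hs.FR_mono (hbig ?_ normalizerIn_le
      (hg.mono fun x hx => ⟨hs.T0_le hx.1, hx.2⟩)) hlt.le⟩
    rw [show Nat.card P = Nat.card R from hu.card_eq.trans hgi.card_eq.symm]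
    exact card_lt_card_of_lt hlt
  have hfi := hf.isIso
  obtain ⟨g, hg, hgFR⟩ := hgood hQc hP
  obtain ⟨g', hg', hg'FR⟩ := hgood (isConj_trans (isConj_symm hfi.isConj) hQc)
    (target_le_of_closed hs.T0_closed hP hfi)
  obtain ⟨k, hk, hk1, -⟩ := hg.exists_symm
  obtain ⟨k', hk', hk'1, -⟩ := hg'.exists_symm
  obtain ⟨γ, hγ, hγe⟩ := ((hk.comp hfi).comp hg').exists_aut
  suffices hγFR : FR p F θ Z D Q (autMap γ) by
    refine hs.FR_congr (hs.FR_comp (hs.FR_comp hgFR hγFR fun x hx => hg.mem hx)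
      (hs.FR_inv hg' hk'1 hg'FR) fun x hx => ?_) fun x hx => ?_
    · exact autMap_mem γ (hg.mem hx)
    · rw [Function.comp_apply, Function.comp_apply, hγe _ (hg.mem hx), Function.comp_apply,
        Function.comp_apply, hk1 x hx, hk'1 _ (hfi.mem hx)]
  have hZQ : Z ≤ Q := fun z hz => by
    have := hu.mem (hZP hz)
    rwa [hs.fix hu.isMap (hZP hz) hz] at this
  have hQS := hQn.1
  haveI := finite_of_le hQS
  haveI := finite_autGroup F hQS
  have hcardQ : Nat.card P = Nat.card Q := hu.card_eq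
  by_cases hH : D.IsCentric (imageAlong θ Q)
  · set A := hs.indSys.autGroup Q with hA
    obtain ⟨m, n', hm, hγmn, X, hRX, hX, ψ, hψ, hψe⟩ := H90.aut_decomp
      (isFullyAutomized_of_isFullyNormalized hs.hS hs.hF hQn)
      (receptive_of_isFullyNormalized hs.hS hs.hF hQn) (A.subgroupOf (F.autGroup Q))
      (hs.indAut_normal hQT) ⟨γ, hγ⟩
    -- the extending part
    set R := normalizerIn (preimageAlong θ T) Q with hR
    have hRX' : R ≤ X := fun g hg => by
      have hgS : g ∈ normalizerIn S Q := ⟨hs.T0_le hg.1, hg.2⟩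
      have hne : H90.normAut Q g hg.2 = conjAut hg.2 := MulEquiv.ext fun _ => Subtype.ext rfl
      refine hX g hgS.1 hg.2 (by rw [hne]; exact conjAut_mem_autGroup F hQS hgS) ?_
      show H90.normAut Q g hg.2 ∈ A
      rw [hne]
      exact (hs.mem_indAut hQT).2 ((hs.ind_of_inD (InD.conj hQT hg.1)).congr
        fun x hx => autMap_conjAut hg.2 hx)
    haveI := finite_of_le (S := preimageAlong θ T) (P := R) normalizerIn_le
    have hQR : Q < R := lt_inf_normalizer_of_lt hT0p hQlt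
    have hn'FR : FR p F θ Z D Q (autMap (n' : MulAut Q)) := by
      refine hs.FR_congr (hs.FR_mono (hbig (hcardQ ▸ card_lt_card_of_lt hQR) normalizerIn_le
        ((isMap_of_mem hψ).mono hRX')) hQR.le) fun x hx => ?_
      rw [homFun_mem ψ (hRX hx), autMap_apply _ hx]
      exact (hψe ⟨x, hx⟩).symm
    -- the part inducing maps of `D`
    haveI := hs.finite_T0
    haveI := finite_autGroup hs.indSys hQT
    let H : Subgroup A :=
      { carrier := {α | FR p F θ Z D Q (autMap (α : MulAut Q))}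
        one_mem' := hs.FR_congr (hs.FR_of_inD (fun E' _ => isMap_id E' hQT)) fun x hx =>
          (FusionSys.autMap_one hx).trans rfl
        mul_mem' := fun {a b} ha hb => hs.FR_congr (hs.FR_comp hb ha fun x hx => autMap_mem _ hx)
          fun x hx => autMap_mul _ _ hx
        inv_mem' := fun {a} ha => hs.FR_inv (isIso_autMap hQS (hs.indAut_le hQT a.2))
          (fun x hx => S5114.inv_autMap_apply _ hx) ha }
    have hsy := hs.isSylowIn_indAut hQT hQn
    have h1 : ((hsy.toSylow : Sylow p A) : Subgroup A) ≤ H := fun α hα => by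
      rw [hsy.coe_toSylow] at hα
      obtain ⟨s, hsS, hsn, hse⟩ := mem_autInducedBy.1 hα.2
      exact hs.FR_congr (hs.FR_conj hQT hsS) fun x hx => by
        rw [show ((α : A) : MulAut Q) = conjAut hsn from hse]
        exact autMap_conjAut hsn hx
    have h2 : pResidual p A ≤ H := Cores.pResidual_le fun α hα => hs.FR_of_inD
      (InD.gen ⟨hZQ, hQT, hH⟩ (by rwa [Subgroup.orderOf_coe]) ((hs.mem_indAut hQT).1 α.2))
    have htop : H = ⊤ :=
      top_le_iff.1 ((Fusion.sylow_sup_pResidual hsy.toSylow).ge.trans (sup_le h1 h2))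
    have hmFR : FR p F θ Z D Q (autMap (m : MulAut Q)) :=
      htop.ge (Subgroup.mem_top (⟨(m : MulAut Q), hm⟩ : A))
    refine hs.FR_congr (hs.FR_comp hn'FR hmFR fun x hx => autMap_mem _ hx) fun x hx => ?_
    rw [show γ = (m : MulAut Q) * (n' : MulAut Q) from congrArg Subtype.val hγmn, autMap_mul _ _ hx,
      Function.comp_apply]
  · obtain ⟨x, hxT, hxQ, hxN, hxZ⟩ := hs.exists_extra hQT hQn hZQ hH
    set N := ((kerAut F Z Q).comap (conjAutIn (preimageAlong θ T) Q)).map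
      (normalizerIn (preimageAlong θ T) Q).subtype with hN
    have hNT : N ≤ preimageAlong θ T := (Subgroup.map_subtype_le _).trans normalizerIn_le
    obtain ⟨G, hG, hGe⟩ := receptive_extend (receptive_of_isFullyNormalized hs.hS hs.hF hQn)
      (isIso_autMap hQS hγ) (N := N) fun y hy => by
        obtain ⟨⟨y, hyn⟩, hyK, rfl⟩ := hy
        have hy' : conjAut hyn.2 ∈ kerAut F Z Q := hyK
        obtain ⟨s, hsS, hsn, hse⟩ := mem_autInducedBy.1
          (hs.kerAut_le_autInducedBy hQn hZQ (hs.kerAut_conj hQS hZQ hγ hy'))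
        refine ⟨hs.T0_le hyn.1, hyn.2, s, hsS, fun z hz => ?_⟩
        have h := congrArg (fun a => autMap a (autMap γ z)) hse
        rw [autMap_conjAut hsn (autMap_mem _ hz), autMap_mul _ _ (autMap_mem _ hz),
          ← autMap_mul γ⁻¹ γ hz, inv_mul_cancel, FusionSys.autMap_one hz, autMap_mul _ _ hz,
          autMap_conjAut hyn.2 hz] at h
        exact h
    have hR : N ⊔ Q ≤ preimageAlong θ T := sup_le hNT hQT
    haveI := finite_of_le hR
    have hxN' : x ∈ N := ⟨⟨x, hxT, hxN.2⟩, hs.conjAut_mem_kerAut hQS hxN hxZ, rfl⟩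
    have hlt : Q < N ⊔ Q := lt_of_le_of_ne le_sup_right fun h => hxQ (h ▸ Subgroup.mem_sup_left hxN')
    exact hs.FR_congr (hs.FR_mono (hbig (hcardQ ▸ card_lt_card_of_lt hlt) hR hG) le_sup_right)
      fun z hz => (hGe z hz).symm

end Setup

end Cfsg.Agent.H89.Lift
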