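import Cfsg.Agent.H49.FactorSaturated
import Cfsg.Agent.H89.ResidualNormal
import Cfsg.Agent.H89.ComponentFix

/-!
A saturated system and its factor system by a central subgroup: images, preimages and induced maps.
-/

set_option autoImplicit false
set_option linter.style.haveILetI false
set_option linter.unusedSectionVars false

namespace Cfsg.Agent.H89.Lift

open Cfsg Cfsg.FusionSystem Cfsg.Agent.FusionSys Cfsg.Agent.H91.CentFocal
open Cfsg.Agent.H89 (mem_preimageAlong preimageAlong_le ker_le_preimageAlong mem_imageAlong KerEq)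
open Cfsg.FusionSystem (centralizerIn normalizerIn)

universe u u'

variable {Ω : Type u} [Group Ω] {S : Subgroup Ω} {Ω' : Type u'} [Group Ω'] {S' T : Subgroup Ω'}

/-- A normal subsystem `D` over `T` of the factor system `E` of `F` by the central subgroup `Z`. -/
structure Setup (p : ℕ) (F : FusionSystem S) (θ : S →* Ω') (Z : Subgroup Ω) (E : FusionSystem S')
    (D : FusionSystem T) : Prop where
  hS : IsPGroup p S
  hF : F.IsSaturated p
  hZ : F.IsCentral Z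
  hE : F.IsFactorSystem Z θ E
  hD : D.IsNormalIn E p

/-- The quotient map as a function on the whole group. -/
noncomputable def th (θ : S →* Ω') : Ω → Ω' := homFun θ

theorem th_eq (θ : S →* Ω') {x : Ω} (hx : x ∈ S) : th θ x = θ ⟨x, hx⟩ := homFun_mem θ hx

variable {θ : S →* Ω'}

theorem th_mul {x y : Ω} (hx : x ∈ S) (hy : y ∈ S) : th θ (x * y) = th θ x * th θ y := by
  rw [th_eq θ hx, th_eq θ hy, th_eq θ (mul_mem hx hy), ← map_mul]
  rfl

theorem th_inv {x : Ω} (hx : x ∈ S) : th θ x⁻¹ = (th θ x)⁻¹ := by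
  rw [th_eq θ hx, th_eq θ (inv_mem hx), ← map_inv]
  rfl

theorem th_conj {x y : Ω} (hx : x ∈ S) (hy : y ∈ S) :
    th θ (x * y * x⁻¹) = th θ x * th θ y * (th θ x)⁻¹ := by
  rw [th_mul (mul_mem hx hy) (inv_mem hx), th_mul hx hy, th_inv hx]

theorem th_diff {x y : Ω} (hx : x ∈ S) (hy : y ∈ S) :
    th θ (x⁻¹ * y) = (th θ x)⁻¹ * th θ y := by
  rw [th_mul (inv_mem hx) hy, th_inv hx]

theorem mem_pre {P' : Subgroup Ω'} {x : Ω} :
    x ∈ preimageAlong θ P' ↔ x ∈ S ∧ th θ x ∈ P' := by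
  rw [mem_preimageAlong]
  exact ⟨fun ⟨hx, h⟩ => ⟨hx, (th_eq θ hx).symm ▸ h⟩, fun ⟨hx, h⟩ => ⟨hx, th_eq θ hx ▸ h⟩⟩

theorem mem_img {P : Subgroup Ω} {y : Ω'} :
    y ∈ imageAlong θ P ↔ ∃ x ∈ S, x ∈ P ∧ th θ x = y := by
  rw [mem_imageAlong]
  exact ⟨fun ⟨x, hx, he⟩ => ⟨x, x.2, hx, (th_eq θ x.2).trans he⟩,
    fun ⟨x, hxS, hx, he⟩ => ⟨⟨x, hxS⟩, hx, (th_eq θ hxS).symm.trans he⟩⟩

theorem th_mem_img {P : Subgroup Ω} {x : Ω} (hP : P ≤ S) (hx : x ∈ P) : th θ x ∈ imageAlong θ P :=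
  mem_img.2 ⟨x, hP hx, hx, rfl⟩

theorem img_mono {P R : Subgroup Ω} (h : P ≤ R) : imageAlong θ P ≤ imageAlong θ R :=
  fun _ hy => by
    obtain ⟨x, hxS, hx, rfl⟩ := mem_img.1 hy
    exact mem_img.2 ⟨x, hxS, h hx, rfl⟩

theorem mem_of_th_mem {Q : Subgroup Ω} {Z : Subgroup Ω} (hker : KerEq θ Z) (hZQ : Z ≤ Q)
    (hQ : Q ≤ S) {x : Ω} (hx : x ∈ S) (h : th θ x ∈ imageAlong θ Q) : x ∈ Q := by
  obtain ⟨q, hqS, hq, he⟩ := mem_img.1 h
  have h1 : th θ (q⁻¹ * x) = 1 := by rw [th_diff hqS hx, he, inv_mul_cancel]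
  have h2 : q⁻¹ * x ∈ Z := by
    rw [th_eq θ (mul_mem (inv_mem hqS) hx)] at h1
    exact (hker _).1 h1
  have := mul_mem hq (hZQ h2)
  rwa [mul_inv_cancel_left] at this

variable {p : ℕ} {F : FusionSystem S} {Z : Subgroup Ω} {E : FusionSystem S'} {D : FusionSystem T}

namespace Setup

variable (hs : Setup p F θ Z E D)
include hs

theorem ker : KerEq θ Z := hs.hE.2.1

theorem range_eq : θ.range = S' := hs.hE.2.2.1

theorem Z_le : Z ≤ S := hs.hZ.1

theorem Z_comm {z x : Ω} (hz : z ∈ Z) (hx : x ∈ S) : x * z = z * x :=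
  Subgroup.mem_centralizer_iff.1 (F.center_le_centralizer (le_center F hs.hZ hz)) x hx

theorem th_eq_one {x : Ω} (hx : x ∈ S) : th θ x = 1 ↔ x ∈ Z := by
  rw [th_eq θ hx]
  exact hs.ker ⟨x, hx⟩

theorem T_le : T ≤ S' := hs.hD.1.2.2.2.1.1

theorem th_mem {x : Ω} (hx : x ∈ S) : th θ x ∈ S' := hs.range_eq ▸ ⟨⟨x, hx⟩, (th_eq θ hx).symm⟩

theorem exists_th {y : Ω'} (hy : y ∈ S') : ∃ x ∈ S, th θ x = y := by
  obtain ⟨⟨x, hx⟩, rfl⟩ := hs.range_eq.ge hy
  exact ⟨x, hx, th_eq θ hx⟩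

theorem T0_le : preimageAlong θ T ≤ S := preimageAlong_le θ T

theorem Z_le_T0 : Z ≤ preimageAlong θ T := ker_le_preimageAlong hs.ker hs.Z_le T

theorem img_T0 : imageAlong θ (preimageAlong θ T) = T := by
  refine le_antisymm (fun y hy => ?_) fun y hy => ?_
  · obtain ⟨x, -, hx, rfl⟩ := mem_img.1 hy
    exact (mem_pre.1 hx).2
  · obtain ⟨x, hx, rfl⟩ := hs.exists_th (hs.T_le hy)
    exact mem_img.2 ⟨x, hx, mem_pre.2 ⟨hx, hy⟩, rfl⟩

theorem img_le_T {P : Subgroup Ω} (hP : P ≤ preimageAlong θ T) : imageAlong θ P ≤ T :=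
  (img_mono hP).trans hs.img_T0.le

theorem le_T0_of_img {P : Subgroup Ω} (hP : P ≤ S) (h : imageAlong θ P ≤ T) :
    P ≤ preimageAlong θ T :=
  fun _ hx => mem_pre.2 ⟨hP hx, h (th_mem_img hP hx)⟩

theorem pre_img {P : Subgroup Ω} (hP : P ≤ S) (hZP : Z ≤ P) :
    preimageAlong θ (imageAlong θ P) = P := by
  rw [preimageAlong_imageAlong hs.ker hs.Z_le hP, sup_eq_left.2 hZP]

variable [Finite S] [Fact p.Prime]

theorem finite_S' : Finite S' := hs.range_eq ▸ Finite.of_surjective _ θ.rangeRestrict_surjective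

theorem isPGroup_S' : IsPGroup p S' :=
  hs.range_eq ▸ hs.hS.of_surjective _ θ.rangeRestrict_surjective

theorem E_saturated : E.IsSaturated p := hs.hD.1.2.1

theorem Z_closed : F.StronglyClosed Z :=
  FusionSys.stronglyClosed_of_isNormal (ComponentFix.isNormal_of_isCentral hs.hZ)

/-- Every map induces a map of the factor system. -/
theorem exists_induced {P : Subgroup Ω} {f : Ω → Ω} (hf : IsMap F P f) :
    ∃ f', IsMap E (imageAlong θ P) f' ∧ ∀ x ∈ P, th θ (f x) = f' (th θ x) := by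
  obtain ⟨φ, hφ, hφf⟩ := hf
  obtain ⟨⟨-, hmor⟩, -⟩ := isSurjectiveMorphism_of_factor hs.hS hs.hF hs.Z_closed hs.hE
  obtain ⟨φ', hφ', hP, hv, hm, hi⟩ := hmor P φ hφ
  refine ⟨homFun φ', isMap_of_mem hφ', fun x hx => ?_⟩
  rw [th_eq θ (hP hx), homFun_mem φ' (hm ⟨x, hx⟩), hi ⟨x, hx⟩,
    th_eq θ (show f x ∈ S from hφf ⟨x, hx⟩ ▸ hv _)]
  exact congrArg θ (Subtype.ext (hφf ⟨x, hx⟩).symm)

theorem induced_image {P Q : Subgroup Ω} {f : Ω → Ω} (hf : IsIso F P Q f) {f' : Ω' → Ω'}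
    (hf' : IsMap E (imageAlong θ P) f') (he : ∀ x ∈ P, th θ (f x) = f' (th θ x)) :
    IsIso E (imageAlong θ P) (imageAlong θ Q) f' := by
  refine ⟨hf', Set.ext fun y => ⟨?_, fun hy => ?_⟩⟩
  · rintro ⟨w, hw, rfl⟩
    obtain ⟨x, -, hx, rfl⟩ := mem_img.1 hw
    rw [← he x hx]
    exact th_mem_img hf.target_le (hf.mem hx)
  · obtain ⟨z, -, hz, rfl⟩ := mem_img.1 hy
    obtain ⟨x, hx, rfl⟩ := hf.exists_preimage hz
    exact ⟨th θ x, th_mem_img hf.source_le hx, (he x hx).symm⟩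

theorem exists_induced_iso {P Q : Subgroup Ω} {f : Ω → Ω} (hf : IsIso F P Q f) :
    ∃ f', IsIso E (imageAlong θ P) (imageAlong θ Q) f' ∧ ∀ x ∈ P, th θ (f x) = f' (th θ x) := by
  obtain ⟨f', hf', he⟩ := hs.exists_induced hf.isMap
  exact ⟨f', hs.induced_image hf hf' he, he⟩

/-- The automorphism of the factor system induced by an automorphism. -/
theorem exists_induced_aut {Q : Subgroup Ω} (hQ : Q ≤ S) {α : MulAut Q} (hα : α ∈ F.autGroup Q) :
    ∃ β ∈ E.autGroup (imageAlong θ Q), ∀ x ∈ Q, autMap β (th θ x) = th θ (autMap α x) := by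
  obtain ⟨f', hf', he⟩ := hs.exists_induced_iso (isIso_autMap hQ hα)
  obtain ⟨β, hβ, hβe⟩ := hf'.exists_aut
  exact ⟨β, hβ, fun x hx => by rw [hβe _ (th_mem_img hQ hx), he x hx]⟩

/-- Maps of the factor system lift to the full preimages. -/
theorem exists_lift {P' : Subgroup Ω'} {f' : Ω' → Ω'} (h : IsMap E P' f') :
    ∃ g, IsMap F (preimageAlong θ P') g ∧
      ∀ x ∈ preimageAlong θ P', th θ (g x) = f' (th θ x) := by
  obtain ⟨-, g, hg, hge⟩ := H49.factor_map hs.hE h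
  refine ⟨g, hg, fun x hx => ?_⟩
  obtain ⟨hxS, hx'⟩ := mem_preimageAlong.1 hx
  obtain ⟨hgS, he⟩ := hge ⟨x, hxS⟩ hx'
  rw [th_eq θ hgS, th_eq θ hxS]
  exact he

theorem exists_iso_lift {A B : Subgroup Ω'} {f' : Ω' → Ω'} (h : IsIso E A B f') :
    ∃ g, IsIso F (preimageAlong θ A) (preimageAlong θ B) g ∧
      ∀ x ∈ preimageAlong θ A, th θ (g x) = f' (th θ x) := by
  obtain ⟨g, hg, hge⟩ := H49.exists_iso_lift hs.hE hs.Z_closed h
  refine ⟨g, hg, fun x hx => ?_⟩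
  obtain ⟨hxS, hx'⟩ := mem_preimageAlong.1 hx
  obtain ⟨hgS, he⟩ := hge ⟨x, hxS⟩ hx'
  rw [th_eq θ hgS, th_eq θ hxS]
  exact he

/-- Every map fixes the central subgroup. -/
theorem fix {P : Subgroup Ω} {f : Ω → Ω} (hf : IsMap F P f) {z : Ω} (hz : z ∈ P) (hzZ : z ∈ Z) :
    f z = z :=
  fix_of_isCentral hs.hZ hf hz hzZ

theorem T0_closed : F.StronglyClosed (preimageAlong θ T) := by
  refine stronglyClosed_iff.2 ⟨hs.T0_le, fun R f hR hf x hx => ?_⟩
  obtain ⟨f', hf', he⟩ := hs.exists_induced hf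
  refine mem_pre.2 ⟨hf.mem_S hx, ?_⟩
  rw [he x hx]
  exact (stronglyClosed_iff.1 hs.hD.1.2.2.2.1).2 _ f' (hs.img_le_T hR) hf' _ (th_mem_img hf.le hx)

theorem T0_conj {s t : Ω} (hs' : s ∈ S) (ht : t ∈ preimageAlong θ T) :
    s * t * s⁻¹ ∈ preimageAlong θ T :=
  conj_mem_closed hs.T0_closed hs' ht

/-- Images of fully normalized subgroups containing `Z` are fully normalized. -/
theorem img_isFullyNormalized {Q : Subgroup Ω} (hQ : F.IsFullyNormalized Q) (hZQ : Z ≤ Q) :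
    E.IsFullyNormalized (imageAlong θ Q) := by
  haveI := hs.finite_S'
  have hle : imageAlong θ Q ≤ S' := imageAlong_le.trans hs.range_eq.le
  refine ⟨hle, fun R hR => ?_⟩
  obtain ⟨f', hf'⟩ := isConj_iff.1 hR
  obtain ⟨g, hg, -⟩ := hs.exists_iso_lift hf'
  rw [hs.pre_img hQ.1 hZQ] at hg
  have hN : ∀ {A : Subgroup Ω'}, A ≤ S' →
      normalizerIn S (preimageAlong θ A) = preimageAlong θ (normalizerIn S' A) := fun {A} hA =>
    le_antisymm (fun x hx => mem_preimageAlong.2 ⟨hx.1,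
      (H49.mem_normalizerIn_preimage hs.range_eq hA ⟨x, hx.1⟩).1 hx⟩)
      fun x hx => (H49.mem_normalizerIn_preimage hs.range_eq hA ⟨x, preimageAlong_le θ _ hx⟩).2
        (mem_preimageAlong.1 hx).2
  have h := hQ.2 _ hg.isConj
  rw [← hs.pre_img hQ.1 hZQ, hN hle, hN hf'.target_le,
    H49.card_preimageAlong (normalizerIn_le.trans hs.range_eq.ge),
    H49.card_preimageAlong (normalizerIn_le.trans hs.range_eq.ge)] at h
  exact Nat.le_of_mul_le_mul_left h Nat.card_pos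

end Setup

end Cfsg.Agent.H89.Lift
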