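import Cfsg.Agent.H89.Lift.Quot
import Cfsg.Agent.H90.PPowerContain
import Cfsg.Agent.H90.WeaklyNormal

/-!
The subsystem of `F` over the preimage `T₀` generated by the automorphisms of order prime to `p` inducing maps
of `D`, and its invariance.
-/

set_option autoImplicit false
set_option linter.style.haveILetI false
set_option linter.unusedSectionVars false

namespace Cfsg.Agent.H89.Lift

open Cfsg Cfsg.FusionSystem Cfsg.Agent.FusionSys Cfsg.Agent.H91.CentFocal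
open Cfsg.Agent.H89 (mem_preimageAlong preimageAlong_le ker_le_preimageAlong mem_imageAlong KerEq)
open Cfsg.FusionSystem (centralizerIn normalizerIn)

universe u u'

variable {Ω : Type u} [Group Ω] {S : Subgroup Ω} {Ω' : Type u'} [Group Ω'] {S' T : Subgroup Ω'}
variable {p : ℕ} {F : FusionSystem S} {θ : S →* Ω'} {Z : Subgroup Ω} {E : FusionSystem S'}
  {D : FusionSystem T}

/-- A map of `F` inside the preimage of `T` inducing a map of `D`. -/
def Ind (F : FusionSystem S) (θ : S →* Ω') (D : FusionSystem T) (P : Subgroup Ω) (f : Ω → Ω) : Prop :=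
  IsMap F P f ∧ P ≤ preimageAlong θ T ∧
    ∃ f', IsMap D (imageAlong θ P) f' ∧ ∀ x ∈ P, th θ (f x) = f' (th θ x)

/-- Subgroups of the preimage containing `Z` whose image is centric in `D`. -/
def InH (θ : S →* Ω') (Z : Subgroup Ω) (D : FusionSystem T) (P : Subgroup Ω) : Prop :=
  Z ≤ P ∧ P ≤ preimageAlong θ T ∧ D.IsCentric (imageAlong θ P)

/-- `E'` contains the generating automorphisms. -/
def HasGens (p : ℕ) (F : FusionSystem S) (θ : S →* Ω') (Z : Subgroup Ω) (D : FusionSystem T)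
    (E' : FusionSystem (preimageAlong θ T)) : Prop :=
  ∀ (Q : Subgroup Ω) (α : MulAut Q), InH θ Z D Q → (orderOf α).Coprime p →
    Ind F θ D Q (autMap α) → IsMap E' Q (autMap α)

/-- The maps lying in every system with the generating automorphisms. -/
def InD (p : ℕ) (F : FusionSystem S) (θ : S →* Ω') (Z : Subgroup Ω) (D : FusionSystem T)
    (P : Subgroup Ω) (f : Ω → Ω) : Prop :=
  ∀ E' : FusionSystem (preimageAlong θ T), HasGens p F θ Z D E' → IsMap E' P f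

/-- Conjugation of a map by an automorphism. -/
noncomputable def tw {T₀ : Subgroup Ω} (a : MulAut T₀) (f : Ω → Ω) : Ω → Ω :=
  autMap a ∘ f ∘ autMap a⁻¹

theorem tw_apply {T₀ : Subgroup Ω} (a : MulAut T₀) (f : Ω → Ω) {x : Ω} (hx : x ∈ T₀) :
    tw a f (autMap a x) = autMap a (f x) := by
  show autMap a (f (autMap a⁻¹ (autMap a x))) = _
  rw [S5114.inv_autMap_apply a hx]

theorem isMap_restr {T₀ : Subgroup Ω} (hT : T₀ ≤ S) {P : Subgroup Ω} {f : Ω → Ω} :
    IsMap (H90.PPC.restr F hT) P f ↔ IsMap F P f ∧ P ≤ T₀ ∧ ∀ x ∈ P, f x ∈ T₀ := by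
  constructor
  · rintro ⟨φ, ⟨h1, h2, h3⟩, he⟩
    exact ⟨⟨φ, h1, he⟩, h2, fun x hx => he ⟨x, hx⟩ ▸ h3 ⟨x, hx⟩⟩
  · rintro ⟨⟨φ, h1, he⟩, h2, h3⟩
    exact ⟨φ, ⟨h1, h2, fun x => (he x).symm ▸ h3 x x.2⟩, he⟩

theorem isMap_subSys {F : FusionSystem S} {Φ : Subgroup Ω → (Ω → Ω) → Prop} {c₁ c₂ c₃ c₄}
    {P : Subgroup Ω} {f : Ω → Ω} :
    IsMap (FusionSys.subSys F Φ c₁ c₂ c₃ c₄) P f ↔ IsMap F P f ∧ Φ P f := by
  constructor
  · rintro ⟨φ, ⟨h1, h2⟩, he⟩
    exact ⟨⟨φ, h1, he⟩, c₁ P _ _ h2 fun x hx => by rw [homFun_mem φ hx]; exact (he ⟨x, hx⟩).symm⟩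
  · rintro ⟨⟨φ, h1, he⟩, h2⟩
    exact ⟨φ, ⟨h1, c₁ P _ _ h2 fun x hx => (homFun_mem φ hx).trans (he ⟨x, hx⟩)⟩, he⟩

/-- The automorphisms of `Q` trivial modulo `Z`. -/
def kerAut (F : FusionSystem S) (Z Q : Subgroup Ω) : Subgroup (MulAut Q) where
  carrier := {α | α ∈ F.autGroup Q ∧ ∀ x ∈ Q, x⁻¹ * autMap α x ∈ Z}
  one_mem' := ⟨one_mem _, fun x hx => by rw [FusionSys.autMap_one hx, inv_mul_cancel]; exact Z.one_mem⟩
  mul_mem' := fun {a b} ha hb => ⟨mul_mem ha.1 hb.1, fun x hx => by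
    have := Z.mul_mem (hb.2 x hx) (ha.2 _ (autMap_mem b hx))
    rw [autMap_mul _ _ hx]
    rwa [mul_assoc, mul_inv_cancel_left] at this⟩
  inv_mem' := fun {a} ha => ⟨inv_mem ha.1, fun x hx => by
    have h1 := Z.inv_mem (ha.2 _ (autMap_mem a⁻¹ hx))
    rw [autMap_inv_apply _ hx, _root_.mul_inv_rev, inv_inv] at h1
    exact h1⟩

theorem Ind.isMap {P : Subgroup Ω} {f : Ω → Ω} (h : Ind F θ D P f) : IsMap F P f := h.1

theorem Ind.le {P : Subgroup Ω} {f : Ω → Ω} (h : Ind F θ D P f) : P ≤ preimageAlong θ T := h.2.1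

theorem Ind.congr {P : Subgroup Ω} {f g : Ω → Ω} (h : Ind F θ D P f) (he : ∀ x ∈ P, g x = f x) :
    Ind F θ D P g := by
  obtain ⟨hf, hP, f', hf', hfe⟩ := h
  exact ⟨hf.congr he, hP, f', hf', fun x hx => (he x hx).symm ▸ hfe x hx⟩

theorem Ind.mono {P R : Subgroup Ω} {f : Ω → Ω} (h : Ind F θ D R f) (hle : P ≤ R) :
    Ind F θ D P f := by
  obtain ⟨hf, hP, f', hf', hfe⟩ := h
  exact ⟨hf.mono hle, hle.trans hP, f', hf'.mono (img_mono hle), fun x hx => hfe x (hle hx)⟩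

theorem Ind.comp {P Q : Subgroup Ω} {f g : Ω → Ω} (hf : Ind F θ D P f) (hg : Ind F θ D Q g)
    (hm : ∀ x ∈ P, f x ∈ Q) : Ind F θ D P (g ∘ f) := by
  obtain ⟨hfF, hP, f', hf', hfe⟩ := hf
  obtain ⟨hgF, hQ, g', hg', hge⟩ := hg
  refine ⟨hfF.comp hgF hm, hP, g' ∘ f', hf'.comp hg' fun y hy => ?_, fun x hx => ?_⟩
  · obtain ⟨x, -, hx, rfl⟩ := mem_img.1 hy
    rw [← hfe x hx]
    exact th_mem_img hgF.le (hm x hx)
  · rw [Function.comp_apply, Function.comp_apply, hge _ (hm x hx), hfe x hx]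

theorem Ind.mem {P : Subgroup Ω} {f : Ω → Ω} (h : Ind F θ D P f) {x : Ω} (hx : x ∈ P) :
    f x ∈ preimageAlong θ T := by
  obtain ⟨hf, -, f', hf', hfe⟩ := h
  exact mem_pre.2 ⟨hf.mem_S hx, hfe x hx ▸ hf'.mem_S (th_mem_img hf.le hx)⟩

theorem Ind.inv {P Q : Subgroup Ω} {f g : Ω → Ω} (hf : IsIso F P Q f) (hg : IsIso F Q P g)
    (hgf : ∀ x ∈ P, g (f x) = x) (h : Ind F θ D P f) : Ind F θ D Q g := by
  obtain ⟨-, -, f', hf', hfe⟩ := h
  obtain ⟨g', hg', hg'e⟩ := hf'.exists_inv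
  have hQT : Q ≤ preimageAlong θ T := fun y hy => by
    obtain ⟨x, hx, rfl⟩ := hf.exists_preimage hy
    exact mem_pre.2 ⟨hf.target_le (hf.mem hx), hfe x hx ▸ hf'.mem_S (th_mem_img hf.source_le hx)⟩
  have hle : imageAlong θ Q ≤ imgSub f' (imageAlong θ P) := fun z hz => by
    obtain ⟨y, -, hy, rfl⟩ := mem_img.1 hz
    obtain ⟨x, hx, rfl⟩ := hf.exists_preimage hy
    exact hf'.mem_imgSub.2 ⟨_, th_mem_img hf.source_le hx, (hfe x hx).symm⟩
  refine ⟨hg.isMap, hQT, g', hg'.mono hle, fun y hy => ?_⟩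
  obtain ⟨x, hx, rfl⟩ := hf.exists_preimage hy
  rw [hgf x hx, hfe x hx, hg'e _ (th_mem_img hf.source_le hx)]

theorem InD.congr {P : Subgroup Ω} {f g : Ω → Ω} (h : InD p F θ Z D P f)
    (he : ∀ x ∈ P, g x = f x) : InD p F θ Z D P g := fun E' hE' => (h E' hE').congr he

theorem InD.mono {P R : Subgroup Ω} {f : Ω → Ω} (h : InD p F θ Z D R f) (hle : P ≤ R) :
    InD p F θ Z D P f := fun E' hE' => (h E' hE').mono hle

theorem InD.comp {P Q : Subgroup Ω} {f g : Ω → Ω} (hf : InD p F θ Z D P f)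
    (hg : InD p F θ Z D Q g) (hm : ∀ x ∈ P, f x ∈ Q) : InD p F θ Z D P (g ∘ f) :=
  fun E' hE' => (hf E' hE').comp (hg E' hE') hm

theorem InD.conj {P : Subgroup Ω} (hP : P ≤ preimageAlong θ T) {a : Ω}
    (ha : a ∈ preimageAlong θ T) : InD p F θ Z D P (conjMap a) :=
  fun E' _ => isMap_conj E' hP ha

theorem InD.gen {Q : Subgroup Ω} {α : MulAut Q} (hQ : InH θ Z D Q) (hα : (orderOf α).Coprime p)
    (hi : Ind F θ D Q (autMap α)) : InD p F θ Z D Q (autMap α) :=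
  fun _ hE' => hE' Q α hQ hα hi

namespace Setup

variable (hs : Setup p F θ Z E D)
include hs

/-- The system of the maps inducing maps of `D`. -/
noncomputable def indSys : FusionSystem (preimageAlong θ T) :=
  FusionSys.subSys (H90.PPC.restr F hs.T0_le) (Ind F θ D) (fun _ _ _ h he => h.congr he)
    (fun P a hP ha => ⟨isMap_conj F (hP.trans hs.T0_le) (hs.T0_le ha), hP, conjMap (th θ a),
      isMap_conj D (hs.img_le_T hP) (mem_pre.1 ha).2, fun _ hx => by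
        rw [conjMap_apply, conjMap_apply, th_conj (hs.T0_le ha) (hs.T0_le (hP hx))]⟩)
    (fun _ _ _ _ _ _ hm h1 h2 => h1.comp h2 hm)
    (fun _ _ _ _ hf hg hgf h => h.inv ⟨(isMap_restr _).1 hf.isMap |>.1, hf.image_eq⟩
      ⟨(isMap_restr _).1 hg.isMap |>.1, hg.image_eq⟩ hgf)

theorem isMap_indSys {P : Subgroup Ω} {f : Ω → Ω} : IsMap hs.indSys P f ↔ Ind F θ D P f := by
  refine isMap_subSys.trans ?_
  rw [isMap_restr]
  exact ⟨fun h => h.2, fun h => ⟨⟨h.1, h.2.1, fun x hx => h.mem hx⟩, h⟩⟩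

theorem hasGens_indSys : HasGens p F θ Z D hs.indSys := fun _ _ _ _ h => hs.isMap_indSys.2 h

theorem ind_of_inD {P : Subgroup Ω} {f : Ω → Ω} (h : InD p F θ Z D P f) : Ind F θ D P f :=
  hs.isMap_indSys.1 (h _ hs.hasGens_indSys)

theorem inD_inv {P Q : Subgroup Ω} {f g : Ω → Ω} (hf : IsIso F P Q f)
    (hgf : ∀ x ∈ P, g (f x) = x) (h : InD p F θ Z D P f) : InD p F θ Z D Q g := by
  intro E' hE'
  obtain ⟨g', hg', hg'f⟩ := (h E' hE').exists_inv
  rw [← hf.eq_imgSub] at hg'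
  refine hg'.congr fun y hy => ?_
  obtain ⟨x, hx, rfl⟩ := hf.exists_preimage hy
  rw [hgf x hx, hg'f x hx]

/-- The lifted subsystem. -/
noncomputable def D0 : FusionSystem (preimageAlong θ T) :=
  FusionSys.subSys hs.indSys (InD p F θ Z D) (fun _ _ _ h he => h.congr he)
    (fun _ _ hP ha => InD.conj hP ha) (fun _ _ _ _ _ _ hm h1 h2 => h1.comp h2 hm)
    (fun _ _ _ _ hf _ hgf h =>
      hs.inD_inv ⟨(hs.isMap_indSys.1 hf.isMap).1, hf.image_eq⟩ hgf h)

theorem isMap_D0 {P : Subgroup Ω} {f : Ω → Ω} : IsMap hs.D0 P f ↔ InD p F θ Z D P f := by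
  refine isMap_subSys.trans ?_
  exact ⟨fun h => h.2, fun h => ⟨hs.isMap_indSys.2 (hs.ind_of_inD h), h⟩⟩

theorem D0_sub : hs.D0.IsSubsystemOf F :=
  isSubsystemOf_iff_isMap.2 fun _ _ h => (hs.ind_of_inD (hs.isMap_D0.1 h)).1

theorem isIso_D0 {P Q : Subgroup Ω} {f : Ω → Ω} (h : IsIso hs.D0 P Q f) : IsIso F P Q f :=
  isIso_of_sub hs.D0_sub h

theorem hasGens_D0 : HasGens p F θ Z D hs.D0 := fun _ _ h1 h2 h3 =>
  hs.isMap_D0.2 (InD.gen h1 h2 h3)

variable [Finite S] [Fact p.Prime]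

theorem finite_T0 : Finite (preimageAlong θ T) := finite_of_le hs.T0_le

theorem finite_T : Finite T := by
  haveI := hs.finite_S'
  exact finite_of_le hs.T_le

theorem inH_T0 : InH θ Z D (preimageAlong θ T) :=
  ⟨hs.Z_le_T0, le_rfl, by haveI := hs.finite_T; rw [hs.img_T0]; exact isCentric_S D⟩

theorem inH_up {P R : Subgroup Ω} (hP : InH θ Z D P) (hle : P ≤ R) (hR : R ≤ preimageAlong θ T) :
    InH θ Z D R :=
  haveI := hs.finite_T
  ⟨hP.1.trans hle, hR, FusionSys.isCentric_of_le hP.2.2 (img_mono hle) (hs.img_le_T hR)⟩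

/-- The class of good subgroups is invariant. -/
theorem inH_map {P Q : Subgroup Ω} {f : Ω → Ω} (hP : InH θ Z D P) (hf : IsIso F P Q f) :
    InH θ Z D Q := by
  obtain ⟨f', hf', -⟩ := hs.exists_induced_iso hf
  refine ⟨fun z hz => ?_, target_le_of_closed hs.T0_closed hP.2.1 hf,
    isCentric_target hs.hD.1.2.2 hP.2.2 hf'⟩
  have := hf.mem (hP.1 hz)
  rwa [hs.fix hf.isMap (hP.1 hz) hz] at this

/-! ### Invariance under the automorphisms of `T₀` -/

variable {a : MulAut (preimageAlong θ T)}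

theorem isMap_aut (ha : a ∈ F.autGroup (preimageAlong θ T)) :
    IsMap F (preimageAlong θ T) (autMap a) :=
  (mem_autGroup_iff hs.T0_le).1 ha

theorem ind_tw (ha : a ∈ F.autGroup (preimageAlong θ T)) {P : Subgroup Ω} {f : Ω → Ω}
    (h : Ind F θ D P f) : Ind F θ D (imgSub (autMap a) P) (tw a f) := by
  obtain ⟨hf, hP, f', hf', hfe⟩ := h
  have hb := hs.isMap_aut ha
  have hb' := hs.isMap_aut (inv_mem ha)
  obtain ⟨β, hβ, hβe⟩ := hs.exists_induced_aut hs.T0_le ha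
  have hfT : ∀ x ∈ P, f x ∈ preimageAlong θ T := fun x hx =>
    (stronglyClosed_iff.1 hs.T0_closed).2 P f hP hf x hx
  have hle : imgSub (autMap a) P ≤ preimageAlong θ T := fun y hy => by
    obtain ⟨x, hx, rfl⟩ := (hb.mono hP).mem_imgSub.1 hy
    exact autMap_mem _ (hP hx)
  have hm : IsMap F (imgSub (autMap a) P) (tw a f) := by
    refine ((hb'.mono hle).comp hf fun y hy => ?_).comp hb fun y hy => ?_
    · obtain ⟨x, hx, rfl⟩ := (hb.mono hP).mem_imgSub.1 hy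
      rwa [S5114.inv_autMap_apply a (hP hx)]
    · obtain ⟨x, hx, rfl⟩ := (hb.mono hP).mem_imgSub.1 hy
      rw [Function.comp_apply, S5114.inv_autMap_apply a (hP hx)]
      exact hfT x hx
  have key : ∀ {T₁ : Subgroup Ω'} (β : MulAut T₁) (_ : T₁ = T), β ∈ E.autGroup T₁ →
      (∀ x ∈ preimageAlong θ T, autMap β (th θ x) = th θ (autMap a x)) →
      ∃ χ, IsMap D (imageAlong θ (imgSub (autMap a) P)) χ ∧
        ∀ x ∈ P, χ (th θ (autMap a x)) = th θ (autMap a (f x)) := by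
    rintro T₁ β rfl hβ hβe
    obtain ⟨χ, hχ, hχe⟩ := invariant_map hs.hD.1.2.2 hβ hf'
    refine ⟨χ, hχ.mono fun z hz => ?_, fun x hx => ?_⟩
    · obtain ⟨y, -, hy, rfl⟩ := mem_img.1 hz
      obtain ⟨x, hx, rfl⟩ := (hb.mono hP).mem_imgSub.1 hy
      rw [← hβe x (hP hx)]
      exact (((mem_autGroup_iff hs.T_le).1 hβ).mono (hs.img_le_T hP)).mem_imgSub.2
        ⟨_, th_mem_img hf.le hx, rfl⟩
    · rw [← hβe x (hP hx), hχe _ (th_mem_img hf.le hx), ← hfe x hx, hβe _ (hfT x hx)]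
  obtain ⟨χ, hχ, hχe⟩ := key β hs.img_T0 hβ hβe
  refine ⟨hm, hle, χ, hχ, fun y hy => ?_⟩
  obtain ⟨x, hx, rfl⟩ := (hb.mono hP).mem_imgSub.1 hy
  rw [tw_apply a f (hP hx), hχe x hx]

theorem inD_tw (ha : a ∈ F.autGroup (preimageAlong θ T)) {P : Subgroup Ω} {f : Ω → Ω}
    (h : InD p F θ Z D P f) : InD p F θ Z D (imgSub (autMap a) P) (tw a f) := by
  intro E' hE'
  have hb := hs.isMap_aut ha
  have hinv : ∀ {x : Ω}, x ∈ preimageAlong θ T → autMap a⁻¹ (autMap a x) = x :=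
    fun hx => S5114.inv_autMap_apply a hx
  let E'' : FusionSystem (preimageAlong θ T) := FusionSys.subSys hs.indSys
    (fun P f => P ≤ preimageAlong θ T → (∀ x ∈ P, f x ∈ preimageAlong θ T) →
      IsMap E' (imgSub (autMap a) P) (tw a f))
    (by
      intro P f g hf he hP hm
      refine (hf hP fun x hx => he x hx ▸ hm x hx).congr fun y hy => ?_
      obtain ⟨x, hx, rfl⟩ := (hb.mono hP).mem_imgSub.1 hy
      rw [tw_apply a g (hP hx), tw_apply a f (hP hx), he x hx])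
    (by
      intro P b _ hb' hP _
      refine (isMap_conj E' (fun y hy => ?_) (autMap_mem a hb')).congr fun y hy => ?_
      · obtain ⟨x, hx, rfl⟩ := (hb.mono hP).mem_imgSub.1 hy
        exact autMap_mem _ (hP hx)
      · obtain ⟨x, hx, rfl⟩ := (hb.mono hP).mem_imgSub.1 hy
        rw [tw_apply a _ (hP hx), conjMap_apply, conjMap_apply]
        exact hb.map_conj hb' (hP hx))
    (by
      intro P Q f g hfF hgF hPQ hf hg hP _
      have hf' := hf hP fun x hx => hfF.mem_S hx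
      have hg' := hg hgF.le fun x hx => hgF.mem_S hx
      refine (hf'.comp hg' fun y hy => ?_).congr fun y hy => ?_
      · obtain ⟨x, hx, rfl⟩ := (hb.mono hP).mem_imgSub.1 hy
        rw [tw_apply a f (hP hx)]
        exact (hb.mono hgF.le).mem_imgSub.2 ⟨_, hPQ x hx, rfl⟩
      · obtain ⟨x, hx, rfl⟩ := (hb.mono hP).mem_imgSub.1 hy
        rw [Function.comp_apply, tw_apply a (g ∘ f) (hP hx), tw_apply a f (hP hx),
          tw_apply a g (hgF.le (hPQ x hx)), Function.comp_apply])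
    (by
      intro P Q f g hf hg hgf hΦ hQ _
      have hf' := hΦ hf.source_le fun x hx => hf.isMap.mem_S hx
      obtain ⟨g', hg', hgf'⟩ := hf'.exists_inv
      have hle : imgSub (autMap a) Q ≤ imgSub (tw a f) (imgSub (autMap a) P) := by
        intro y hy
        obtain ⟨z, hz, rfl⟩ := (hb.mono hQ).mem_imgSub.1 hy
        obtain ⟨x, hx, rfl⟩ := hf.exists_preimage hz
        exact hf'.mem_imgSub.2 ⟨autMap a x,
          (hb.mono hf.source_le).mem_imgSub.2 ⟨x, hx, rfl⟩, tw_apply a f (hf.source_le hx)⟩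
      refine (hg'.mono hle).congr fun y hy => ?_
      obtain ⟨z, hz, rfl⟩ := (hb.mono hQ).mem_imgSub.1 hy
      obtain ⟨x, hx, rfl⟩ := hf.exists_preimage hz
      have h1 := hgf' (autMap a x) ((hb.mono hf.source_le).mem_imgSub.2 ⟨x, hx, rfl⟩)
      rw [tw_apply a f (hf.source_le hx)] at h1
      rw [tw_apply a g (hQ (hf.mem hx)), hgf x hx, h1])
  have hE'' : HasGens p F θ Z D E'' := by
    intro Q α hQ hα hi
    refine isMap_subSys.2 ⟨hs.isMap_indSys.2 hi, fun hQT _ => ?_⟩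
    have hQi : IsIso F Q (imgSub (autMap a) Q) (autMap a) := (hb.mono hQT).isIso
    have he : ∀ y ∈ imgSub (autMap a) Q, tw a (autMap α) y = autMap (hQi.autEquiv α) y := fun y hy => by
      obtain ⟨x, hx, rfl⟩ := (hb.mono hQT).mem_imgSub.1 hy
      rw [tw_apply a _ (hQT hx), hQi.autMap_autEquiv α hx]
    exact (hE' _ (hQi.autEquiv α) (hs.inH_map hQ hQi) (by rwa [MulEquiv.orderOf_eq])
      ((hs.ind_tw ha hi).congr fun y hy => (he y hy).symm)).congr he
  exact (isMap_subSys.1 (h E'' hE'')).2 (hs.ind_of_inD h).le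
    fun x hx => (hs.ind_of_inD h).mem hx

end Setup

end Cfsg.Agent.H89.Lift
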